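import Mathlib

/-!
Owner: helper29. Elementary facts on transitive groups used for groups of degree `q + 2`.
-/

set_option autoImplicit false

namespace CfsgLib.Recog.NeumannTwin

open MulAction Subgroup

section Solvable

variable {X : Type*} [Finite X] (R : Subgroup (Equiv.Perm X))

theorem exists_abelian_normal {G : Type*} [Group G] [Group.IsSolvable G] [Nontrivial G] :
    ∃ A : Subgroup G, A.Normal ∧ A ≠ ⊥ ∧ ∀ a ∈ A, ∀ b ∈ A, a * b = b * a := by
  classical
  obtain ⟨n, hn⟩ := (Group.IsSolvable.solvable : ∃ n, derivedSeries G n = ⊥)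
  have hex : ∃ n, derivedSeries G n = ⊥ := ⟨n, hn⟩
  have hpos : 0 < Nat.find hex := by
    rcases Nat.eq_zero_or_pos (Nat.find hex) with h | h
    · exfalso
      have h' := Nat.find_spec hex
      rw [h, derivedSeries_zero] at h'
      exact top_ne_bot h'
    · exact h
  obtain ⟨m, hm⟩ : ∃ m, Nat.find hex = m + 1 := ⟨Nat.find hex - 1, by omega⟩
  refine ⟨derivedSeries G m, derivedSeries_normal G m, Nat.find_min hex (by omega), fun a ha b hb => ?_⟩
  have h' := Nat.find_spec hex
  rw [hm, derivedSeries_succ] at h'
  have := commutator_mem_commutator ha hb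
  rw [h', mem_bot, commutatorElement_eq_one_iff_mul_comm] at this
  exact this

/-- A solvable transitive group of prime degree `q` has point stabilisers of order dividing `q - 1`. -/
theorem stabilizer_dvd {q : ℕ} (hq : q.Prime) (hX : Nat.card X = q) [IsPretransitive R X]
    [Group.IsSolvable R] (x : X) : Nat.card (stabilizer R x) ∣ q - 1 := by
  have := Fact.mk hq
  have hqR : q ∣ Nat.card R := by
    have h := (stabilizer R x).index_mul_card
    rw [MulAction.index_stabilizer_of_transitive R x, hX] at h
    exact ⟨_, h.symm⟩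
  have : Nontrivial R := Finite.one_lt_card_iff_nontrivial.1 (lt_of_lt_of_le hq.one_lt (Nat.le_of_dvd Nat.card_pos hqR))
  obtain ⟨A, hA, hA1, hab⟩ := exists_abelian_normal (G := R)
  -- the orbits of `A` are blocks, so `A` is transitive
  have : IsPreprimitive R X := IsPreprimitive.of_prime_card (by rw [hX]; exact hq)
  have hAt : IsPretransitive A X := by
    refine IsQuasiPreprimitive.isPretransitive_of_normal fun hfix => hA1 ?_
    rw [eq_bot_iff]
    intro a ha
    refine Subgroup.mem_bot.2 (Subtype.ext (Equiv.Perm.ext fun y => ?_))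
    exact (Set.eq_univ_iff_forall.1 hfix y) ⟨a, ha⟩
  have hreg : ∀ a : A, (a : R) • x = x → a = 1 := by
    intro a ha
    refine Subtype.ext (Subtype.ext (Equiv.Perm.ext fun y => ?_))
    obtain ⟨b, rfl⟩ := hAt.exists_smul_eq x y
    show (a : R) • ((b : R) • x) = (b : R) • x
    rw [← mul_smul, hab a a.2 b b.2, mul_smul, ha]
  have hAcard : Nat.card A = q := by
    rw [← hX]
    refine Nat.card_congr (Equiv.ofBijective (fun a : A => (a : R) • x) ⟨fun a b h => ?_, fun y => hAt.exists_smul_eq x y⟩)
    have h' : ((a : R)⁻¹ * b) • x = x := by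
      show ((a : R)⁻¹ * b) • x = x
      rw [mul_smul, inv_smul_eq_iff]
      exact (h : (a : R) • x = (b : R) • x).symm
    exact inv_mul_eq_one.1 (hreg (a⁻¹ * b) h')
  have hcyc : IsCyclic A := isCyclic_of_prime_card hAcard
  set f : stabilizer R x →* MulAut A := (MulAut.conjNormal : R →* MulAut A).comp (stabilizer R x).subtype with hf
  have hinj : Function.Injective f := by
    rw [← MonoidHom.ker_eq_bot_iff, eq_bot_iff]
    intro g hg
    refine Subgroup.mem_bot.2 (Subtype.ext (Subtype.ext (Equiv.Perm.ext fun y => ?_)))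
    obtain ⟨b, rfl⟩ := hAt.exists_smul_eq x y
    have h1 : (g : R) * (b : R) * (g : R)⁻¹ = b := congrArg Subtype.val (DFunLike.congr_fun hg b)
    show (g : R) • ((b : R) • x) = (b : R) • x
    rw [← mul_smul, mul_inv_eq_iff_eq_mul.1 h1, mul_smul, g.2]
  have h := Subgroup.card_dvd_of_injective f hinj
  rwa [IsCyclic.card_mulAut, hAcard, Nat.totient_prime hq] at h

end Solvable

variable {α : Type*} [Fintype α] [DecidableEq α] (G : Subgroup (Equiv.Perm α))

/-- A tuple map from an element of a multiply transitive group. -/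
theorem exists_map {k : ℕ} (h : IsMultiplyPretransitive G α k) (u v : Fin k → α) (hu : Function.Injective u)
    (hv : Function.Injective v) : ∃ g ∈ G, ∀ i, g (u i) = v i := by
  obtain ⟨g, hg⟩ := h.exists_smul_eq ⟨u, hu⟩ ⟨v, hv⟩
  exact ⟨g, g.2, fun i => DFunLike.congr_fun hg i⟩

/-- The order of a doubly transitive group. -/
theorem card_eq_pairs (h2 : IsMultiplyPretransitive G α 2) {a b : α} (hab : a ≠ b) :
    Nat.card G = Fintype.card α * (Fintype.card α - 1) * Nat.card (stabilizer G a ⊓ stabilizer G b : Subgroup G) := by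
  let e : Fin 2 ↪ α := ⟨![a, b], by
    intro i j h
    fin_cases i <;> fin_cases j <;> simp_all [eq_comm]⟩
  have := h2
  have hs : stabilizer G e = stabilizer G a ⊓ stabilizer G b := by
    ext g
    refine ⟨fun hg => ⟨DFunLike.congr_fun hg 0, DFunLike.congr_fun hg 1⟩, fun hg => Function.Embedding.ext fun i => ?_⟩
    fin_cases i
    · exact hg.1
    · exact hg.2
  have h := (stabilizer G e).index_mul_card
  have horb : orbit G e = Set.univ := Set.eq_univ_of_forall fun u => h2.exists_smul_eq e u
  rw [MulAction.index_stabilizer] at h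
  erw [horb] at h
  rw [Set.ncard_univ, hs, Nat.card_eq_fintype_card (α := Fin 2 ↪ α), Fintype.card_embedding_eq,
    Fintype.card_fin] at h
  rw [← h, Nat.descFactorial_succ, Nat.descFactorial_one]
  ring

end CfsgLib.Recog.NeumannTwin
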