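import Mathlib

/-!
Owner: helper29. Abelian groups of exponent `r` with at most three orbits of length `r` and no single cycle: an element
fixing every orbit and normalising the group acts on it as a power map.
-/

set_option autoImplicit false

namespace CfsgLib.Recog.NeumannTwin

open Subgroup

variable {α : Type*} [Fintype α] [DecidableEq α]

theorem scalar_of_orbits (R : Subgroup (Equiv.Perm α)) {r : ℕ} (hr : r.Prime) (U : Finset α)
    (hsupp : ∀ h ∈ R, h.support ⊆ U) (O : α → Finset α) (hO : ∀ x y, y ∈ O x ↔ ∃ h ∈ R, h x = y)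
    (hOc : ∀ x ∈ U, (O x).card = r) (hU : U.card ≤ 3 * r) (hcomm : ∀ g ∈ R, ∀ h ∈ R, g * h = h * g)
    (hexp : ∀ h ∈ R, h ^ r = 1)
    (hgen : ∀ x ∈ U, ∀ a ∈ R, a x ≠ x → ∀ h ∈ R, ∃ s : ℕ, ((a ^ s)⁻¹ * h) x = x)
    (hbig : ∀ h ∈ R, h ≠ 1 → 2 * r ≤ h.support.card)
    (v : Equiv.Perm α) (hv : ∀ h ∈ R, v * h * v⁻¹ ∈ R) (hvO : ∀ x ∈ U, v x ∈ O x) :
    ∃ j : ℕ, ∀ h ∈ R, v * h * v⁻¹ = h ^ j := by
  classical
  have hfix : ∀ h ∈ R, ∀ x y, h x = x → y ∈ O x → h y = y := by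
    intro h hh x y hx hy
    obtain ⟨g, hg, rfl⟩ := (hO x y).1 hy
    have := congrArg (fun σ : Equiv.Perm α => σ x) (hcomm h hh g hg)
    simp only [Equiv.Perm.mul_apply, hx] at this
    exact this
  have hsymm : ∀ x y, y ∈ O x → x ∈ O y := by
    intro x y hy
    obtain ⟨g, hg, rfl⟩ := (hO x y).1 hy
    exact (hO _ _).2 ⟨g⁻¹, inv_mem hg, Equiv.symm_apply_apply g x⟩
  have hOU : ∀ x ∈ U, O x ⊆ U := by
    intro x hx y hy
    obtain ⟨g, hg, rfl⟩ := (hO x y).1 hy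
    by_cases h : g x = x
    · rwa [h]
    · exact hsupp g hg (Equiv.Perm.apply_mem_support.2 (Equiv.Perm.mem_support.2 h))
  have htwo : ∀ h ∈ R, ∀ x ∈ U, ∀ y ∈ U, y ∉ O x → h x = x → h y = y → h = 1 := by
    intro h hh x hx y hy hxy e1 e2
    by_contra h1
    have hdis : Disjoint (O x) (O y) := Finset.disjoint_left.2 fun w hw hw' => by
      obtain ⟨g, hg, e⟩ := (hO x w).1 hw
      obtain ⟨g', hg', e'⟩ := (hO y w).1 hw'
      refine hxy ((hO x y).2 ⟨g'⁻¹ * g, mul_mem (inv_mem hg') hg, ?_⟩)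
      rw [Equiv.Perm.mul_apply, e, ← e']
      exact Equiv.symm_apply_apply g' y
    have hsub : h.support ⊆ U \ (O x ∪ O y) := fun w hw => Finset.mem_sdiff.2 ⟨hsupp h hh hw, fun hw' => by
      rcases Finset.mem_union.1 hw' with hw' | hw'
      · exact Equiv.Perm.mem_support.1 hw (hfix h hh x w e1 hw')
      · exact Equiv.Perm.mem_support.1 hw (hfix h hh y w e2 hw')⟩
    have := Finset.card_le_card hsub
    rw [Finset.card_sdiff_of_subset (Finset.union_subset (hOU x hx) (hOU y hy)),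
      Finset.card_union_of_disjoint hdis, hOc x hx, hOc y hy] at this
    have := hbig h hh h1
    have := hr.pos
    omega
  have hconj : ∀ (h : Equiv.Perm α) (n : ℕ), v * h ^ n * v⁻¹ = (v * h * v⁻¹) ^ n := fun h n => (conj_pow).symm
  have hcyc : ∀ a ∈ R, (∀ h ∈ R, ∃ s : ℕ, h = a ^ s) → ∃ j : ℕ, ∀ h ∈ R, v * h * v⁻¹ = h ^ j := by
    intro a ha hall
    obtain ⟨j, hj⟩ := hall _ (hv a ha)
    refine ⟨j, fun h hh => ?_⟩
    obtain ⟨s, rfl⟩ := hall h hh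
    rw [hconj, hj, ← pow_mul, ← pow_mul, mul_comm]
  by_cases hfree : ∀ h ∈ R, ∀ x ∈ U, h x = x → h = 1
  · rcases eq_or_ne R ⊥ with hb | hb
    · refine ⟨1, fun h hh => ?_⟩
      rw [hb, Subgroup.mem_bot] at hh
      simp [hh]
    · obtain ⟨a, ha, ha1⟩ := (R.bot_or_exists_ne_one).resolve_left hb
      obtain ⟨x, hx⟩ : a.support.Nonempty := Finset.nonempty_iff_ne_empty.2
        (fun h => ha1 (Equiv.Perm.support_eq_empty_iff.1 h))
      refine hcyc a ha fun h hh => ?_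
      obtain ⟨s, hs⟩ := hgen x (hsupp a ha hx) a ha (Equiv.Perm.mem_support.1 hx) h hh
      exact ⟨s, (inv_mul_eq_one.1 (hfree _ (mul_mem (inv_mem (pow_mem ha s)) hh) x (hsupp a ha hx) hs)).symm⟩
  push Not at hfree
  obtain ⟨a, ha, x, hx, hax, ha1⟩ := hfree
  -- two further orbits
  have ha2 := hbig a ha ha1
  obtain ⟨y, hy⟩ : a.support.Nonempty := Finset.nonempty_iff_ne_empty.2
    (fun h => ha1 (Equiv.Perm.support_eq_empty_iff.1 h))
  have hyU := hsupp a ha hy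
  obtain ⟨z, hz, hzy⟩ := Finset.exists_mem_notMem_of_card_lt_card
    (show (O y).card < a.support.card by rw [hOc y hyU]; have := hr.pos; omega)
  have hzU := hsupp a ha hz
  have hay := Equiv.Perm.mem_support.1 hy
  have haz := Equiv.Perm.mem_support.1 hz
  have hyx : y ∉ O x := fun h => hay (hfix a ha x y hax h)
  have hzx : z ∉ O x := fun h => haz (hfix a ha x z hax h)
  by_cases hall : ∀ h ∈ R, ∃ s : ℕ, h = a ^ s
  · exact hcyc a ha hall
  push Not at hall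
  obtain ⟨h0, hh0, hne⟩ := hall
  obtain ⟨s0, hs0⟩ := hgen y hyU a ha hay h0 hh0
  set b := (a ^ s0)⁻¹ * h0 with hb
  have hbR : b ∈ R := mul_mem (inv_mem (pow_mem ha _)) hh0
  have hb1 : b ≠ 1 := fun h => hne s0 (inv_mul_eq_one.1 h).symm
  -- the point stabilisers
  have hKx : ∀ h ∈ R, h x = x → ∃ s : ℕ, h = a ^ s := by
    intro h hh e
    obtain ⟨s, hs⟩ := hgen y hyU a ha hay h hh
    refine ⟨s, (inv_mul_eq_one.1 (htwo _ (mul_mem (inv_mem (pow_mem ha s)) hh) x hx y hyU hyx ?_ hs)).symm⟩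
    rw [Equiv.Perm.mul_apply, e, Equiv.Perm.inv_eq_iff_eq]
    exact (Equiv.Perm.pow_apply_eq_self_of_apply_eq_self hax s).symm
  have hKy : ∀ h ∈ R, h y = y → ∃ s : ℕ, h = b ^ s := by
    intro h hh e
    have hbx : b x ≠ x := fun hb' => hb1 (htwo b hbR x hx y hyU hyx hb' hs0)
    obtain ⟨s, hs⟩ := hgen x hx b hbR hbx h hh
    refine ⟨s, (inv_mul_eq_one.1 (htwo _ (mul_mem (inv_mem (pow_mem hbR s)) hh) x hx y hyU hyx hs ?_)).symm⟩
    rw [Equiv.Perm.mul_apply, e, Equiv.Perm.inv_eq_iff_eq]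
    exact (Equiv.Perm.pow_apply_eq_self_of_apply_eq_self hs0 s).symm
  have hpres : ∀ h ∈ R, ∀ w ∈ U, h w = w → (v * h * v⁻¹) w = w := by
    intro h hh w hw e
    refine hfix _ (hv h hh) (v w) w ?_ (hsymm _ _ (hvO w hw))
    simp [e]
  obtain ⟨i, hi⟩ := hKx _ (hv a ha) (hpres a ha x hx hax)
  obtain ⟨j, hj⟩ := hKy _ (hv b hbR) (hpres b hbR y hyU hs0)
  obtain ⟨s, hs⟩ := hgen z hzU a ha haz b hbR
  have hbz : b z ≠ z := fun hb' => hb1 (htwo b hbR y hyU z hzU hzy hs0 hb')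
  set e := (a ^ s)⁻¹ * b with he
  have heR : e ∈ R := mul_mem (inv_mem (pow_mem ha _)) hbR
  have h1 : (v * e * v⁻¹) z = z := hpres e heR z hzU hs
  have h2 : (e ^ j) z = z := Equiv.Perm.pow_apply_eq_self_of_apply_eq_self hs j
  have h1' : v * e * v⁻¹ = (a ^ (i * s))⁻¹ * b ^ j := by
    have : v * e * v⁻¹ = (v * a ^ s * v⁻¹)⁻¹ * (v * b * v⁻¹) := by rw [he]; group
    rw [this, hconj, hi, hj, ← pow_mul]
  have h2' : e ^ j = (a ^ (s * j))⁻¹ * b ^ j := by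
    have : Commute (a ^ s)⁻¹ b := hcomm _ (inv_mem (pow_mem ha _)) _ hbR
    rw [he, this.mul_pow, inv_pow, ← pow_mul]
  have hw : (a ^ i * (a ^ j)⁻¹) ^ s = 1 := by
    have hc : Commute (a ^ i) (a ^ j)⁻¹ := hcomm _ (pow_mem ha _) _ (inv_mem (pow_mem ha _))
    have : (a ^ i * (a ^ j)⁻¹) ^ s = (v * e * v⁻¹)⁻¹ * e ^ j := by
      have hc2 : Commute (a ^ (i * s)) ((a ^ (s * j))⁻¹) := hcomm _ (pow_mem ha _) _ (inv_mem (pow_mem ha _))
      rw [hc.mul_pow, inv_pow, ← pow_mul, ← pow_mul, h1', h2', mul_inv_rev, inv_inv, mul_assoc,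
        ← mul_assoc (a ^ (i * s)), hcomm _ (mul_mem (pow_mem ha _) (inv_mem (pow_mem ha _))) _ (pow_mem hbR _),
        inv_mul_cancel_left, mul_comm j s]
    rw [this]
    refine htwo _ (mul_mem (inv_mem (hv e heR)) (pow_mem heR _)) x hx z hzU hzx ?_ ?_
    · rw [← this]
      refine Equiv.Perm.pow_apply_eq_self_of_apply_eq_self ?_ s
      rw [Equiv.Perm.mul_apply, Equiv.Perm.inv_eq_iff_eq.2 (Equiv.Perm.pow_apply_eq_self_of_apply_eq_self hax j).symm,
        Equiv.Perm.pow_apply_eq_self_of_apply_eq_self hax i]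
    · rw [Equiv.Perm.mul_apply, h2, Equiv.Perm.inv_eq_iff_eq, h1]
  have hij : a ^ i = a ^ j := by
    have hr1 := hexp _ (mul_mem (pow_mem ha i) (inv_mem (pow_mem ha j)))
    have hco : Nat.gcd r s = 1 := by
      refine (hr.coprime_iff_not_dvd.2 fun hd => hbz ?_)
      obtain ⟨m, rfl⟩ := hd
      rw [pow_mul, hexp a ha, one_pow, inv_one, one_mul] at he
      rw [← he]
      exact hs
    have := pow_gcd_eq_one.2 ⟨hr1, hw⟩
    rw [hco, pow_one] at this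
    exact mul_inv_eq_one.1 this
  refine ⟨j, fun h hh => ?_⟩
  obtain ⟨t, ht⟩ := hgen y hyU a ha hay h hh
  obtain ⟨t', ht'⟩ := hKy _ (mul_mem (inv_mem (pow_mem ha t)) hh) ht
  have hh' : h = a ^ t * b ^ t' := by rw [← ht', mul_inv_cancel_left]
  have hab : Commute (a ^ t) (b ^ t') := hcomm _ (pow_mem ha _) _ (pow_mem hbR _)
  have : v * h * v⁻¹ = (v * a ^ t * v⁻¹) * (v * b ^ t' * v⁻¹) := by rw [hh']; group
  rw [this, hconj, hconj, hi, hj, hij, hh', hab.mul_pow, ← pow_mul, ← pow_mul, ← pow_mul, ← pow_mul, mul_comm j,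
    mul_comm j]

end CfsgLib.Recog.NeumannTwin
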