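import Cfsg.Agent.Lib.Recog.NeumannTwin.Basic
import Cfsg.Agent.Lib.Recog.NeumannTwin.Scalar
import Cfsg.Agent.S0711
import Cfsg.Agent.S0713

/-!
Owner: helper29. Five-fold transitive groups of degree `2r + 3` or `3r + 4`, `r ≥ 5` prime, contain the alternating
group.
-/

set_option autoImplicit false

namespace CfsgLib.Recog.NeumannTwin

open MulAction Subgroup

variable {α : Type*} [Fintype α] [DecidableEq α]

set_option maxHeartbeats 2000000 in
theorem alternating_le (G : Subgroup (Equiv.Perm α)) {r k c : ℕ} (hr : r.Prime) (hr5 : 5 ≤ r)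
    (hkc : (k = 3 ∧ c = 2) ∨ (k = 4 ∧ c = 3)) (hcard : Fintype.card α = c * r + k)
    (h5 : IsMultiplyPretransitive G α 5) : alternatingGroup α ≤ G := by
  classical
  have := Fact.mk hr
  have hk3 : 3 ≤ k := by omega
  have hk4 : k ≤ 4 := by omega
  have hc3 : c ≤ 3 := by omega
  have hc2 : 2 ≤ c := by omega
  have hcr2 : 2 * r ≤ c * r := Nat.mul_le_mul_right r hc2
  have hcr3 : c * r ≤ 3 * r := Nat.mul_le_mul_right r hc3
  have hn5 : 5 ≤ Nat.card α := by rw [Nat.card_eq_fintype_card, hcard]; omega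
  have h1k : IsMultiplyPretransitive G α (k + 1) :=
    MulAction.isMultiplyPretransitive_of_le (n := 5) (by omega) hn5
  have hk0 : IsMultiplyPretransitive G α k :=
    MulAction.isMultiplyPretransitive_of_le (n := 5) (by omega) hn5
  have h2 : IsMultiplyPretransitive G α 2 :=
    MulAction.isMultiplyPretransitive_of_le (n := 5) (by omega) hn5
  obtain ⟨u⟩ : Nonempty (Fin k ↪ α) :=
    Function.Embedding.nonempty_of_card_le (by rw [Fintype.card_fin, hcard]; omega)
  set T : Finset α := Finset.univ.map u with hT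
  have hTc : T.card = k := by simp [hT]
  have huT : ∀ i, u i ∈ T := fun i => Finset.mem_map_of_mem u (Finset.mem_univ i)
  have hTu : ∀ t ∈ T, ∃ i, u i = t := fun t ht => by
    obtain ⟨i, -, rfl⟩ := Finset.mem_map.1 ht; exact ⟨i, rfl⟩
  set U : Finset α := Tᶜ with hU
  have hUm : ∀ x, x ∈ U ↔ x ∉ T := fun x => Finset.mem_compl
  have hUc : U.card = c * r := by rw [hU, Finset.card_compl, hTc, hcard]; omega
  -- the pointwise stabiliser
  set S : Subgroup (Equiv.Perm α) := G ⊓ fixingSubgroup (Equiv.Perm α) (T : Set α) with hS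
  have hSm : ∀ g, g ∈ S ↔ g ∈ G ∧ ∀ t ∈ T, g t = t := fun g => by
    rw [hS, Subgroup.mem_inf, mem_fixingSubgroup_iff]; rfl
  have hStrans : ∀ x ∈ U, ∀ y ∈ U, ∃ g ∈ S, g x = y := by
    intro x hx y hy
    have hinj : ∀ z ∈ U, Function.Injective (Fin.cons z u : Fin (k + 1) → α) := fun z hz =>
      Fin.cons_injective_iff.2 ⟨fun ⟨i, hi⟩ => (hUm z).1 hz (hi ▸ huT i), u.injective⟩
    obtain ⟨g, hg, he⟩ := exists_map G h1k (Fin.cons x u) (Fin.cons y u) (hinj x hx) (hinj y hy)
    refine ⟨g, (hSm g).2 ⟨hg, fun t ht => ?_⟩, by simpa using he 0⟩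
    obtain ⟨i, rfl⟩ := hTu t ht
    simpa using he i.succ
  have hSU : ∀ g ∈ S, ∀ x ∈ U, g x ∈ U := fun g hg x hx => (hUm _).2 fun h =>
    (hUm x).1 hx (g.injective (((hSm g).1 hg).2 _ h) ▸ h)
  obtain ⟨Rs⟩ := (Sylow.nonempty : Nonempty (Sylow r S))
  set R : Subgroup (Equiv.Perm α) := (Rs : Subgroup S).map S.subtype with hR
  have hRS : R ≤ S := Subgroup.map_subtype_le _
  have hRp : IsPGroup r R := Rs.isPGroup'.map _
  have hsupp : ∀ h ∈ R, h.support ⊆ U := fun h hh x hx => (hUm x).2 fun ht =>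
    Equiv.Perm.mem_support.1 hx (((hSm h).1 (hRS hh)).2 x ht)
  have hnofix : ∀ x ∈ U, ∃ h ∈ R, h x ≠ x := by
    intro x hx
    by_contra hno
    push Not at hno
    have hle : (Rs : Subgroup S) ≤ stabilizer S x := fun g hg => hno (g : Equiv.Perm α) ⟨g, hg, rfl⟩
    have horb : orbit S x = (U : Set α) := Set.ext fun y =>
      ⟨fun ⟨g, e⟩ => e ▸ hSU _ g.2 x hx, fun hy => by
        obtain ⟨g, hg, e⟩ := hStrans x hx y hy
        exact ⟨⟨g, hg⟩, e⟩⟩
    have hidx : (stabilizer S x).index = c * r := by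
      rw [MulAction.index_stabilizer, horb, Set.ncard_coe_finset, hUc]
    exact Rs.not_dvd_index (dvd_trans (Dvd.intro_left c hidx.symm) (Subgroup.index_dvd_of_le hle))
  -- the orbits
  let O : α → Finset α := fun x => Finset.univ.filter fun y => ∃ h ∈ R, h x = y
  have hO : ∀ x y, y ∈ O x ↔ ∃ h ∈ R, h x = y := fun x y => by simp [O]
  have hOset : ∀ x, orbit R x = (O x : Set α) := fun x => Set.ext fun y => by
    rw [Finset.mem_coe, hO]
    exact ⟨fun ⟨h, e⟩ => ⟨h, h.2, e⟩, fun ⟨h, hh, e⟩ => ⟨⟨h, hh⟩, e⟩⟩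
  have hOc : ∀ x ∈ U, (O x).card = r := by
    intro x hx
    obtain ⟨n, hn⟩ := hRp.card_orbit x
    rw [Nat.card_coe_set_eq, hOset, Set.ncard_coe_finset] at hn
    have hsub : O x ⊆ U := fun y hy => by
      obtain ⟨h, hh, rfl⟩ := (hO x y).1 hy
      exact hSU h (hRS hh) x hx
    have hle := Finset.card_le_card hsub
    rw [hn, hUc] at hle
    rcases n with _ | _ | n
    · obtain ⟨h, hh, hne⟩ := hnofix x hx
      rw [pow_zero] at hn
      exact absurd (Finset.card_le_one.1 hn.le _ ((hO x _).2 ⟨h, hh, rfl⟩) _ ((hO x _).2 ⟨1, one_mem R, rfl⟩)) hne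
    · rw [hn, pow_one]
    · rw [show n + 1 + 1 = n + 2 from rfl] at hle
      have h2' : r * r ≤ r ^ (n + 2) := by
        rw [← sq]; exact Nat.pow_le_pow_right hr.pos (by omega)
      have : 5 * r ≤ r * r := Nat.mul_le_mul_right r hr5
      omega
  have hidxR : ∀ x ∈ U, (stabilizer R x).index = r := fun x hx => by
    rw [MulAction.index_stabilizer, hOset, Set.ncard_coe_finset, hOc x hx]
  have hnorm : ∀ x ∈ U, (stabilizer R x).Normal := by
    intro x hx
    refine Subgroup.normal_of_index_eq_minFac_card ?_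
    obtain ⟨m, hm⟩ := IsPGroup.iff_card.1 hRp
    have hdvd := (stabilizer R x).index_dvd_card
    rw [hidxR x hx, hm] at hdvd
    have hm0 : m ≠ 0 := fun h => hr.not_dvd_one (by simpa [h] using hdvd)
    rw [hidxR x hx, hm, hr.pow_minFac hm0]
  have hgen : ∀ x ∈ U, ∀ a ∈ R, a x ≠ x → ∀ h ∈ R, ∃ s : ℕ, ((a ^ s)⁻¹ * h) x = x := by
    intro x hx a ha hax h hh
    have := hnorm x hx
    have hq : Nat.card (R ⧸ stabilizer R x) = r := by rw [← Subgroup.index_eq_card]; exact hidxR x hx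
    have hne : ((⟨a, ha⟩ : R) : R ⧸ stabilizer R x) ≠ 1 := fun h' => hax ((QuotientGroup.eq_one_iff _).1 h')
    obtain ⟨s, hs⟩ := mem_powers_of_prime_card hq (g' := ((⟨h, hh⟩ : R) : R ⧸ stabilizer R x)) hne
    exact ⟨s, (QuotientGroup.eq.1 hs : (((⟨a, ha⟩ : R) ^ s)⁻¹ * ⟨h, hh⟩) ∈ stabilizer R x)⟩
  have hcomm : ∀ g ∈ R, ∀ h ∈ R, g * h = h * g := by
    intro g hg h hh
    have key : ∀ x, (g * h * g⁻¹ * h⁻¹) x = x := by
      intro x
      by_cases hx : x ∈ T
      · exact ((hSm _).1 (hRS (mul_mem (mul_mem (mul_mem hg hh) (inv_mem hg)) (inv_mem hh)))).2 x hx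
      have hxU := (hUm x).2 hx
      have := hnorm x hxU
      have hq : Nat.card (R ⧸ stabilizer R x) = r := by rw [← Subgroup.index_eq_card]; exact hidxR x hxU
      set g' : R ⧸ stabilizer R x := ((⟨g, hg⟩ : R) : R ⧸ stabilizer R x)
      set h' : R ⧸ stabilizer R x := ((⟨h, hh⟩ : R) : R ⧸ stabilizer R x)
      have hc : g' * h' * g'⁻¹ * h'⁻¹ = 1 := by
        by_cases h1 : g' = 1
        · simp [h1]
        obtain ⟨s, hs⟩ := mem_powers_of_prime_card hq (g' := h') h1
        rw [← (hs : g' ^ s = h')]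
        group
      exact (QuotientGroup.eq_one_iff
        ((⟨g, hg⟩ : R) * (⟨h, hh⟩ : R) * (⟨g, hg⟩ : R)⁻¹ * (⟨h, hh⟩ : R)⁻¹)).1 hc
    have h1 : g * h * g⁻¹ * h⁻¹ = 1 := Equiv.ext key
    calc g * h = g * h * g⁻¹ * h⁻¹ * (h * g) := by group
      _ = h * g := by rw [h1, one_mul]
  have hexp : ∀ h ∈ R, h ^ r = 1 := by
    intro h hh
    refine Equiv.ext fun x => ?_
    by_cases hx : x ∈ T
    · exact ((hSm _).1 (hRS (pow_mem hh r))).2 x hx
    have hxU := (hUm x).2 hx
    have := hnorm x hxU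
    have h' := Subgroup.pow_index_mem (stabilizer R x) (⟨h, hh⟩ : R)
    rw [hidxR x hxU] at h'
    exact h'
  by_cases hbig : ∀ h ∈ R, h ≠ 1 → 2 * r ≤ h.support.card
  swap
  · -- a single cycle
    push Not at hbig
    obtain ⟨h, hh, h1, hlt⟩ := hbig
    have hord := orderOf_eq_prime (hexp h hh) h1
    have hcyc : h.IsCycle := Equiv.Perm.isCycle_of_prime_order (by rw [hord]; exact hr) (by rw [hord]; exact hlt)
    exact Cfsg.Agent.S0713.result G (isPreprimitive_of_is_two_pretransitive h2) hr (by rw [hcard]; omega)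
      (by rw [hcard]; omega) hcyc (by rw [← hcyc.orderOf, hord]) ((hSm h).1 (hRS hh)).1
  -- the normaliser
  let P : Subgroup (Equiv.Perm α) :=
    { carrier := {n | ∀ x, n x ∈ T ↔ x ∈ T}
      mul_mem' := fun {a b} ha hb x => (ha (b x)).trans (hb x)
      one_mem' := fun _ => Iff.rfl
      inv_mem' := fun {a} ha x => by
        have := ha (a⁻¹ x)
        rw [← Equiv.Perm.mul_apply, mul_inv_cancel, Equiv.Perm.one_apply] at this
        exact this.symm }
  set N : Subgroup (Equiv.Perm α) := G ⊓ P ⊓ Subgroup.normalizer (R : Set (Equiv.Perm α)) with hN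
  let π : N →* Equiv.Perm {x // x ∈ T} :=
    { toFun := fun n => (n : Equiv.Perm α).subtypePerm n.2.1.2
      map_one' := by ext; rfl
      map_mul' := fun a b => by ext; rfl }
  have hπ : Function.Surjective π := by
    intro σ
    obtain ⟨g, hg, he⟩ := exists_map G hk0 u (fun i => (σ ⟨u i, huT i⟩ : α)) u.injective
      (fun i j h => u.injective (congrArg Subtype.val (σ.injective (Subtype.ext h))))
    have hgσ : ∀ t : {x // x ∈ T}, g t = σ t := fun t => by
      obtain ⟨i, hi⟩ := hTu t t.2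
      have : t = ⟨u i, huT i⟩ := Subtype.ext hi.symm
      rw [this]; exact he i
    have hgP : g ∈ P := fun x => by
      refine ⟨fun h => ?_, fun h => hgσ ⟨x, h⟩ ▸ (σ ⟨x, h⟩).2⟩
      obtain ⟨t, ht⟩ := σ.surjective ⟨g x, h⟩
      have : g t = g x := by rw [hgσ, ht]
      exact g.injective this ▸ t.2
    have hconj : ∀ a ∈ G, a ∈ P → ∀ s ∈ S, a * s * a⁻¹ ∈ S := by
      intro a ha haP s hs
      refine (hSm _).2 ⟨mul_mem (mul_mem ha ((hSm s).1 hs).1) (inv_mem ha), fun t ht => ?_⟩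
      simp only [Equiv.Perm.mul_apply]
      rw [((hSm s).1 hs).2 _ ((P.inv_mem haP t).2 ht)]
      exact Equiv.apply_symm_apply a t
    let e : S ≃* S :=
      { toFun := fun s => ⟨g * s * g⁻¹, hconj g hg hgP s s.2⟩
        invFun := fun s => ⟨g⁻¹ * s * (g⁻¹)⁻¹, hconj g⁻¹ (inv_mem hg) (P.inv_mem hgP) s s.2⟩
        left_inv := fun s => Subtype.ext (by group)
        right_inv := fun s => Subtype.ext (by group)
        map_mul' := fun a b => Subtype.ext (by simp) }
    have he' : Function.Surjective (e.toMonoidHom : S → S) := e.surjective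
    obtain ⟨s, hs⟩ := MulAction.exists_smul_eq S (Rs.mapSurjective he') Rs
    have hmv : ∀ h ∈ R, ((s : Equiv.Perm α) * g) * h * ((s : Equiv.Perm α) * g)⁻¹ ∈ R := by
      rintro _ ⟨h, hh, rfl⟩
      have h1 : e h ∈ (Rs.mapSurjective he' : Subgroup S) := by
        rw [Sylow.coe_mapSurjective he' Rs]; exact ⟨h, hh, rfl⟩
      have h2 : s * e h * s⁻¹ ∈ (Rs : Subgroup S) := by
        have h2 := Subgroup.smul_mem_pointwise_smul (e h) (MulAut.conj s) _ h1
        rw [← Sylow.coe_subgroup_smul] at h2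
        rw [← hs]
        exact h2
      refine ⟨_, h2, ?_⟩
      show (s : Equiv.Perm α) * (g * h * g⁻¹) * (s : Equiv.Perm α)⁻¹ = _
      rw [Subgroup.coe_subtype]
      group
    set n := (s : Equiv.Perm α) * g with hn
    have hnR : n ∈ Subgroup.normalizer (R : Set (Equiv.Perm α)) := by
      have heq : R.map (MulAut.conj n).toMonoidHom = R :=
        Subgroup.eq_of_le_of_card_ge (Subgroup.map_le_iff_le_comap.2 fun h hh => hmv h hh)
          (Nat.card_congr (Subgroup.equivMapOfInjective _ _ (MulAut.conj n).injective).toEquiv).le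
      refine Subgroup.mem_normalizer_iff.2 fun h => ⟨hmv h, fun h' => ?_⟩
      rw [← heq] at h'
      obtain ⟨h0, hh0, e0⟩ := h'
      exact mul_left_cancel (mul_right_cancel e0) ▸ hh0
    have hs' := (hSm _).1 s.2
    have hsP : (s : Equiv.Perm α) ∈ P := fun x =>
      ⟨fun h => (s : Equiv.Perm α).injective (hs'.2 _ h) ▸ h, fun h => by rw [hs'.2 x h]; exact h⟩
    refine ⟨⟨n, ⟨mul_mem hs'.1 hg, mul_mem hsP hgP⟩, hnR⟩, Equiv.ext fun t => Subtype.ext ?_⟩
    show (s : Equiv.Perm α) (g t) = σ t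
    rw [hgσ, hs'.2 _ (σ t).2]
  -- the action on the orbits
  have hNO : ∀ (n : N) (x y : α), y ∈ O x → (n : Equiv.Perm α) y ∈ O ((n : Equiv.Perm α) x) := by
    intro n x y hy
    obtain ⟨h, hh, rfl⟩ := (hO x y).1 hy
    exact (hO _ _).2 ⟨_, (Subgroup.mem_normalizer_iff.1 n.2.2 h).1 hh, by simp⟩
  have hOsymm : ∀ x y, y ∈ O x → x ∈ O y := by
    intro x y hy
    obtain ⟨g, hg, rfl⟩ := (hO x y).1 hy
    exact (hO _ _).2 ⟨g⁻¹, inv_mem hg, Equiv.symm_apply_apply g x⟩
  let stX : Setoid {x // x ∈ U} :=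
    { r := fun x y => (y : α) ∈ O x
      iseqv := ⟨fun x => (hO _ _).2 ⟨1, one_mem R, rfl⟩, fun h => hOsymm _ _ h, fun {x y z} h h' => by
        obtain ⟨g, hg, e⟩ := (hO _ _).1 h
        obtain ⟨g', hg', e'⟩ := (hO _ _).1 h'
        exact (hO _ _).2 ⟨g' * g, mul_mem hg' hg, by rw [Equiv.Perm.mul_apply, e, e']⟩⟩ }
  have hnU : ∀ (n : N) x, (n : Equiv.Perm α) x ∈ U ↔ x ∈ U := fun n x => by
    rw [hUm, hUm]; exact not_congr (n.2.1.2 x)
  have hrel : ∀ (n : N) (x y : {x // x ∈ U}), stX x y ↔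
      stX ((n : Equiv.Perm α).subtypePerm (hnU n) x) ((n : Equiv.Perm α).subtypePerm (hnU n) y) := by
    intro n x y
    refine ⟨hNO n x y, fun h => ?_⟩
    have h' := hNO n⁻¹ _ _ h
    simp only [Equiv.Perm.subtypePerm_apply, InvMemClass.coe_inv, Equiv.Perm.coe_inv, Equiv.symm_apply_apply] at h'
    exact h'
  let θ : N →* Equiv.Perm (Quotient stX) :=
    { toFun := fun n => Quotient.congr ((n : Equiv.Perm α).subtypePerm (hnU n)) (hrel n)
      map_one' := by
        refine Equiv.ext fun z => ?_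
        induction z using Quotient.inductionOn
        rfl
      map_mul' := fun a b => by
        refine Equiv.ext fun z => ?_
        induction z using Quotient.inductionOn
        rfl }
  have hQc : Fintype.card (Quotient stX) = c := by
    have h := Finset.card_eq_sum_card_fiberwise (f := Quotient.mk stX) (s := Finset.univ) (t := Finset.univ)
      (fun x _ => Finset.mem_univ _)
    rw [Finset.sum_const_nat (m := r) ?_, Finset.card_univ, Finset.card_univ, Fintype.card_coe, hUc] at h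
    · exact Nat.eq_of_mul_eq_mul_right hr.pos h.symm
    intro z _
    obtain ⟨x, rfl⟩ := Quotient.exists_rep z
    rw [← hOc x x.2, ← Finset.card_map (Function.Embedding.subtype _)]
    congr 1
    ext y
    simp only [Finset.mem_map, Finset.mem_filter, Finset.mem_univ, true_and]
    refine ⟨?_, fun hy => ?_⟩
    · rintro ⟨w, hw, rfl⟩
      exact hOsymm _ _ (Quotient.exact hw)
    · obtain ⟨h, hh, e⟩ := (hO _ _).1 hy
      exact ⟨⟨y, e ▸ hSU h (hRS hh) x x.2⟩, Quotient.sound (hOsymm _ _ hy), rfl⟩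
  -- a nontrivial image of the kernel
  have hJ : ¬ θ.ker ≤ π.ker := by
    intro hle
    have h1 := Subgroup.index_dvd_of_le hle
    rw [Subgroup.index_ker, Subgroup.index_ker, MonoidHom.range_eq_top.2 hπ, Subgroup.card_top, Nat.card_perm,
      Nat.card_eq_fintype_card, Fintype.card_coe, hTc] at h1
    have h2 : Nat.card θ.range ≤ c.factorial := by
      refine (Subgroup.card_le_card_group _).trans (le_of_eq ?_)
      rw [Nat.card_perm, Nat.card_eq_fintype_card, hQc]
    have := Nat.le_of_dvd Nat.card_pos h1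
    rcases hkc with ⟨rfl, rfl⟩ | ⟨rfl, rfl⟩ <;> simp [Nat.factorial] at this h2 <;> omega
  obtain ⟨v, hvθ, hvπ⟩ := SetLike.not_le_iff_exists.1 hJ
  obtain ⟨t0, ht0⟩ : ∃ t, π v t ≠ t := by
    by_contra h; push Not at h
    exact hvπ (MonoidHom.mem_ker.2 (Equiv.ext h))
  obtain ⟨t1, ht1, ht1'⟩ : ∃ t, t ≠ t0 ∧ t ≠ π v t0 := by
    by_contra h; push Not at h
    have := Finset.card_le_card (show (Finset.univ : Finset {x // x ∈ T}) ⊆ {t0, π v t0} from fun t _ => by
      by_cases e : t = t0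
      · simp [e]
      · simp [h t e])
    rw [Finset.card_univ, Fintype.card_coe, hTc] at this
    have := this.trans Finset.card_le_two
    omega
  obtain ⟨n, hn⟩ := hπ (Equiv.swap (π v t0) t1)
  set y : N := n * v * n⁻¹ * v⁻¹ with hy
  have hyπ : π y ≠ 1 := by
    intro h
    have hc : π n * π v = π v * π n := by
      have : π y * (π v * π n) = π n * π v := by rw [hy]; simp only [map_mul, map_inv]; group
      rw [h, one_mul] at this
      exact this.symm
    have := Equiv.Perm.ext_iff.1 hc t0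
    rw [Equiv.Perm.mul_apply, Equiv.Perm.mul_apply, hn, Equiv.swap_apply_left,
      Equiv.swap_apply_of_ne_of_ne ht0.symm ht1.symm] at this
    exact ht1' this
  have hyθ : θ y = 1 := by
    rw [hy]; simp [map_mul, MonoidHom.mem_ker.1 hvθ]
  have hθO : ∀ w : N, θ w = 1 → ∀ x ∈ U, (w : Equiv.Perm α) x ∈ O x := by
    intro w hw x hx
    have h' := Quotient.exact (Equiv.Perm.ext_iff.1 hw (Quotient.mk stX ⟨x, hx⟩))
    exact hOsymm _ _ h'
  have hvn : ∀ (w : N), ∀ h ∈ R, (w : Equiv.Perm α) * h * (w : Equiv.Perm α)⁻¹ ∈ R := fun w h hh =>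
    (Subgroup.mem_normalizer_iff.1 w.2.2 h).1 hh
  obtain ⟨j, hj⟩ := scalar_of_orbits R hr U hsupp O hO hOc (by omega) hcomm hexp hgen hbig (v : Equiv.Perm α)
    (hvn v) (hθO v (MonoidHom.mem_ker.1 hvθ))
  set Y : Equiv.Perm α := (y : Equiv.Perm α) with hY
  have hYc : ∀ h ∈ R, Y * h = h * Y := by
    intro h hh
    have h1R : (v : Equiv.Perm α)⁻¹ * h * (v : Equiv.Perm α) ∈ R := by
      simpa using hvn v⁻¹ h hh
    set h1 := (v : Equiv.Perm α)⁻¹ * h * (v : Equiv.Perm α)
    have e1 : h1 ^ j = h := by rw [← hj h1 h1R]; simp only [h1]; group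
    have h2R : (n : Equiv.Perm α)⁻¹ * h1 * (n : Equiv.Perm α) ∈ R := by simpa using hvn n⁻¹ h1 h1R
    set h2 := (n : Equiv.Perm α)⁻¹ * h1 * (n : Equiv.Perm α)
    have e2 : Y * h * Y⁻¹ = h := by
      calc Y * h * Y⁻¹
          = (n : Equiv.Perm α) * ((v : Equiv.Perm α) * h2 * (v : Equiv.Perm α)⁻¹) * (n : Equiv.Perm α)⁻¹ := by
            simp only [hY, hy, Subgroup.coe_mul, InvMemClass.coe_inv, h1, h2]; group
        _ = ((n : Equiv.Perm α) * h2 * (n : Equiv.Perm α)⁻¹) ^ j := by rw [hj h2 h2R, conj_pow]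
        _ = h1 ^ j := by congr 1; simp only [h2]; group
        _ = h := e1
    exact mul_inv_eq_iff_eq_mul.1 e2
  have hYr : ∀ x ∈ U, (Y ^ r) x = x := by
    intro x hx
    obtain ⟨h, hh, hhx⟩ := (hO x _).1 (hθO y hyθ x hx)
    have hm : ∀ m : ℕ, (Y ^ m) x = (h ^ m) x := by
      intro m
      induction m with
      | zero => rfl
      | succ m ih =>
        rw [pow_succ', Equiv.Perm.mul_apply, ih, ← Equiv.Perm.mul_apply, hYc _ (pow_mem hh m),
          Equiv.Perm.mul_apply, pow_succ, Equiv.Perm.mul_apply, hY, hhx]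
    rw [hm, hexp h hh, Equiv.Perm.one_apply]
  refine (Cfsg.Agent.S0711.result G (k := 5) (by norm_num) (by rw [hcard]; omega) h5 (Y ^ r)
    (pow_mem y.2.1.1 r) (fun h => hyπ ?_) ?_).2
  · have hr1 : π y ^ r = 1 := by
      rw [← map_pow, show y ^ r = 1 from Subtype.ext (by rw [SubmonoidClass.coe_pow]; exact h), map_one]
    have hc1 : π y ^ k.factorial = 1 := by
      have : Nat.card (Equiv.Perm {x // x ∈ T}) = k.factorial := by
        rw [Nat.card_perm, Nat.card_eq_fintype_card, Fintype.card_coe, hTc]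
      rw [← this]; exact pow_card_eq_one'
    have hco : Nat.gcd r k.factorial = 1 :=
      hr.coprime_iff_not_dvd.2 fun hd => absurd ((Nat.Prime.dvd_factorial hr).1 hd) (by omega)
    have := pow_gcd_eq_one.2 ⟨hr1, hc1⟩
    rwa [hco, pow_one] at this
  · have hsub : (Y ^ r).support ⊆ T := fun x hx => by
      by_contra hxT
      exact Equiv.Perm.mem_support.1 hx (hYr x ((hUm x).2 hxT))
    have := Finset.card_le_card hsub
    omega

end CfsgLib.Recog.NeumannTwin
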