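import Mathlib

/-!
Owner: helper29. A primitive group of even degree has no two suborbits whose lengths are distinct and add up to a prime.
-/

set_option autoImplicit false

namespace CfsgLib.Recog.NeumannTwin

open MulAction Subgroup
open scoped Pointwise

variable {G α : Type*} [Group G] [Finite G] [MulAction G α] [Fintype α] [DecidableEq α]

/-- The smaller suborbit at `b` of a rank three group is a union of a block with `b`. -/
theorem false_of_suborbits [IsPreprimitive G α] (b γ δ : α) (hγ : γ ≠ b)
    (hcover : ∀ y, y ≠ b → y ∈ orbit (stabilizer G b) γ ∨ y ∈ orbit (stabilizer G b) δ)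
    (hδb : δ ≠ b) (hlt : (orbit (stabilizer G b) γ).ncard < (orbit (stabilizer G b) δ).ncard)
    (hco : Nat.Coprime (orbit (stabilizer G b) γ).ncard (orbit (stabilizer G b) δ).ncard) : False := by
  classical
  have := Fintype.ofFinite G
  set k := (orbit (stabilizer G b) γ).ncard with hk
  set l := (orbit (stabilizer G b) δ).ncard with hl
  -- the graph
  let Adj : α → α → Prop := fun x y => ∃ g : G, g • x = b ∧ g • y ∈ orbit (stabilizer G b) γ
  let N : α → Finset α := fun x => Finset.univ.filter (Adj x)
  have hAg : ∀ (g : G) x y, Adj x y → Adj (g • x) (g • y) := fun g x y ⟨h, h1, h2⟩ =>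
    ⟨h * g⁻¹, by rw [mul_smul, inv_smul_smul, h1], by rw [mul_smul, inv_smul_smul]; exact h2⟩
  have hb : ∀ y, Adj b y ↔ y ∈ orbit (stabilizer G b) γ := fun y => by
    refine ⟨fun ⟨g, h1, h2⟩ => ?_, fun h => ⟨1, one_smul _ _, by rwa [one_smul]⟩⟩
    obtain ⟨h, hh⟩ := h2
    refine ⟨(⟨g, h1⟩ : stabilizer G b)⁻¹ * h, ?_⟩
    show (g⁻¹ * (h : G)) • γ = y
    rw [mul_smul, inv_smul_eq_iff]
    exact hh
  have hNg : ∀ (g : G) x, N (g • x) = (N x).image (g • ·) := fun g x => by
    ext y
    simp only [N, Finset.mem_filter, Finset.mem_univ, true_and, Finset.mem_image]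
    refine ⟨fun h => ⟨g⁻¹ • y, ?_, smul_inv_smul g y⟩, fun ⟨z, hz, e⟩ => e ▸ hAg g x z hz⟩
    have := hAg g⁻¹ _ _ h
    rwa [inv_smul_smul] at this
  have hNb : (N b).card = k := by
    rw [hk, ← Set.ncard_coe_finset]
    congr 1
    ext y
    simp [N, hb y]
  have hN : ∀ x, (N x).card = k := fun x => by
    obtain ⟨g, rfl⟩ := exists_smul_eq G b x
    rw [hNg, Finset.card_image_of_injective _ (MulAction.injective g), hNb]
  have hirr : ∀ x, ¬ Adj x x := fun x ⟨g, h1, ⟨h, hh⟩⟩ => hγ (by
    refine MulAction.injective (h : G) ?_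
    exact ((hh : (h : G) • γ = g • x).trans h1).trans (h.2 : (h : G) • b = b).symm)
  -- self-paired
  set M := Finset.univ.filter fun y => Adj y b with hM
  have hMc : M.card = k := by
    have hin : ∀ y, (Finset.univ.filter fun x => Adj x y).card = M.card := fun y => by
      obtain ⟨g, rfl⟩ := exists_smul_eq G b y
      rw [hM, ← Finset.card_image_of_injective (Finset.univ.filter fun y => Adj y b) (MulAction.injective g)]
      congr 1
      ext x
      simp only [Finset.mem_filter, Finset.mem_univ, true_and, Finset.mem_image]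
      constructor
      · exact fun h => ⟨g⁻¹ • x, by simpa using hAg g⁻¹ _ _ h, smul_inv_smul g x⟩
      · rintro ⟨z, hz, rfl⟩; exact hAg g z b hz
    have h := Finset.sum_card_bipartiteAbove_eq_sum_card_bipartiteBelow (s := (Finset.univ : Finset α))
      (t := (Finset.univ : Finset α)) Adj
    simp only [Finset.bipartiteAbove, Finset.bipartiteBelow] at h
    rw [Finset.sum_congr rfl (fun x _ => hN x), Finset.sum_congr rfl (fun y _ => hin y), Finset.sum_const,
      Finset.sum_const, smul_eq_mul, smul_eq_mul] at h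
    exact (Nat.eq_of_mul_eq_mul_left (Fintype.card_pos_iff.2 ⟨b⟩) h).symm
  have hMinv : ∀ y z, y ∈ M → z ∈ orbit (stabilizer G b) y → z ∈ M := by
    intro y z hy hz
    obtain ⟨h, rfl⟩ := hz
    simp only [hM, Finset.mem_filter, Finset.mem_univ, true_and] at hy ⊢
    have := hAg (h : G) _ _ hy
    rwa [(h.2 : (h : G) • b = b)] at this
  have hsym : ∀ y, Adj b y → Adj y b := by
    intro y hy
    have hMl : ∀ z ∈ M, z ∈ orbit (stabilizer G b) γ := by
      intro z hz
      have hzb : z ≠ b := fun h => hirr b (by subst h; simpa [hM] using hz)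
      refine (hcover z hzb).resolve_right fun hzδ => ?_
      have hsub : orbit (stabilizer G b) δ ⊆ (M : Set α) := fun w hw => by
        rw [← orbit_eq_iff.2 hzδ] at hw
        exact hMinv z w hz hw
      have := Set.ncard_le_ncard hsub (Set.toFinite _)
      rw [Set.ncard_coe_finset, hMc] at this
      omega
    have heq : (M : Set α) = orbit (stabilizer G b) γ := Set.eq_of_subset_of_ncard_le (fun z hz => hMl z hz)
      (by rw [Set.ncard_coe_finset, hMc]) (Set.toFinite _)
    have : y ∈ (M : Set α) := heq ▸ (hb y).1 hy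
    simpa [hM] using this
  have hsym' : ∀ x y, Adj x y → Adj y x := fun x y h => by
    obtain ⟨g, rfl⟩ := exists_smul_eq G b x
    have h' := hAg g⁻¹ _ _ h
    rw [inv_smul_smul] at h'
    have := hAg g _ _ (hsym _ h')
    rwa [smul_inv_smul] at this
  -- all pairs between the two suborbits are alike
  have hpair : ∀ γ' δ', γ' ∈ orbit (stabilizer G b) γ → δ' ∈ orbit (stabilizer G b) δ →
      ((γ', δ') ∈ orbit (stabilizer G b) (γ, δ)) := by
    intro γ' δ' h1 h2
    set B := stabilizer G b
    have hsub : orbit B (γ, δ) ⊆ orbit B γ ×ˢ orbit B δ := by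
      rintro _ ⟨h, rfl⟩
      exact ⟨mem_orbit γ h, mem_orbit δ h⟩
    have hd1 : k ∣ (orbit B (γ, δ)).ncard := by
      rw [hk, ← MulAction.index_stabilizer, ← MulAction.index_stabilizer]
      exact Subgroup.index_dvd_of_le fun h hh => congrArg Prod.fst (hh : h • (γ, δ) = (γ, δ))
    have hd2 : l ∣ (orbit B (γ, δ)).ncard := by
      rw [hl, ← MulAction.index_stabilizer, ← MulAction.index_stabilizer]
      exact Subgroup.index_dvd_of_le fun h hh => congrArg Prod.snd (hh : h • (γ, δ) = (γ, δ))
    have hpos : 0 < (orbit B (γ, δ)).ncard := (Set.ncard_pos (Set.toFinite _)).2 (nonempty_orbit _)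
    have hle : (orbit B γ ×ˢ orbit B δ).ncard ≤ (orbit B (γ, δ)).ncard := by
      rw [Set.ncard_prod, ← hk, ← hl]
      exact Nat.le_of_dvd hpos (hco.mul_dvd_of_dvd_of_dvd hd1 hd2)
    rw [Set.eq_of_subset_of_ncard_le hsub hle (Set.toFinite _)]
    exact ⟨h1, h2⟩
  have hconst : ∀ γ' δ', γ' ∈ orbit (stabilizer G b) γ → δ' ∈ orbit (stabilizer G b) δ →
      (Adj γ' δ' ↔ Adj γ δ) := by
    intro γ' δ' h1 h2
    obtain ⟨h, hh⟩ := hpair γ' δ' h1 h2
    have e1 : (h : G) • γ = γ' := congrArg Prod.fst hh
    have e2 : (h : G) • δ = δ' := congrArg Prod.snd hh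
    refine ⟨fun h' => ?_, fun h' => e1 ▸ e2 ▸ hAg (h : G) _ _ h'⟩
    have := hAg (h : G)⁻¹ _ _ h'
    rwa [← e1, ← e2, inv_smul_smul, inv_smul_smul] at this
  have hkpos : 0 < k := (Set.ncard_pos (Set.toFinite _)).2 (nonempty_orbit _)
  by_cases hall : Adj γ δ
  · have hsub : insert b (orbit (stabilizer G b) δ) ⊆ (N γ : Set α) := by
      intro z hz
      simp only [N, Finset.coe_filter, Finset.mem_univ, true_and, Set.mem_setOf_eq]
      rcases hz with rfl | hz
      · exact hsym γ ((hb γ).2 (mem_orbit_self γ))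
      · exact (hconst γ z (mem_orbit_self γ) hz).2 hall
    have hle := Set.ncard_le_ncard hsub (Set.toFinite _)
    rw [Set.ncard_coe_finset, hN, Set.ncard_insert_of_notMem ?_ (Set.toFinite _)] at hle
    · omega
    · rintro ⟨h, hh⟩
      refine hδb ?_
      rw [← inv_smul_smul h δ]
      exact (congrArg (h⁻¹ • ·) (hh : h • δ = b)).trans (h⁻¹.2 : (h⁻¹ : G) • b = b)
  · -- a block
    set B : Finset α := insert b (N b) with hB
    have hmemB : ∀ z, z ∈ B ↔ z = b ∨ z ∈ orbit (stabilizer G b) γ := fun z => by simp [hB, N, hb z]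
    have hBc : B.card = k + 1 := by
      rw [hB, Finset.card_insert_of_notMem (by simpa [N] using hirr b), hNb]
    have hclique : ∀ x ∈ B, N x = B.erase x := by
      intro x hx
      refine Finset.eq_of_subset_of_card_le (fun z hz => ?_) (by rw [Finset.card_erase_of_mem hx, hBc, hN]; omega)
      simp only [N, Finset.mem_filter, Finset.mem_univ, true_and] at hz
      refine Finset.mem_erase.2 ⟨fun h => hirr x (h ▸ hz), (hmemB z).2 ?_⟩
      rcases (hmemB x).1 hx with rfl | hxγ
      · exact Or.inr ((hb z).1 hz)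
      · by_cases hzb : z = b
        · exact Or.inl hzb
        · exact Or.inr ((hcover z hzb).resolve_right fun hzδ => hall ((hconst x z hxγ hzδ).1 hz))
    have hblock : IsBlock G (B : Set α) := by
      rw [isBlock_iff_smul_eq_of_nonempty]
      intro g hne
      obtain ⟨_, ⟨x, hx, rfl⟩, hy⟩ := hne
      have e : (B.image (g • ·)) = B := by
        refine Finset.eq_of_subset_of_card_le (fun z hz => ?_)
          (by rw [Finset.card_image_of_injective _ (MulAction.injective g)])
        obtain ⟨w, hw, rfl⟩ := Finset.mem_image.1 hz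
        by_cases hwx : w = x
        · subst hwx; exact hy
        · have hwN : w ∈ N x := by
            rw [hclique x hx]
            exact Finset.mem_erase.2 ⟨hwx, hw⟩
          have : g • w ∈ N (g • x) := by rw [hNg]; exact Finset.mem_image_of_mem _ hwN
          rw [hclique _ hy] at this
          exact (Finset.mem_erase.1 this).2
      calc g • (B : Set α) = ((B.image (g • ·) : Finset α) : Set α) := by rw [Finset.coe_image]; rfl
        _ = B := by rw [e]
    rcases IsPreprimitive.isTrivialBlock_of_isBlock hblock with h | h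
    · have := (Finset.card_le_one).2 fun x hx y hy => h (Finset.mem_coe.2 hx) (Finset.mem_coe.2 hy)
      omega
    · have hδB : δ ∈ B := by rw [← Finset.mem_coe, h]; trivial
      rcases (hmemB δ).1 hδB with h' | h'
      · exact hδb h'
      · rw [← orbit_eq_iff.2 h'] at hk
        omega

end CfsgLib.Recog.NeumannTwin
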