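import Cfsg.Agent.Lib.Recog.NeumannTwin.Basic
import Cfsg.Agent.Lib.Recog.NeumannTwin.RankThree
import Cfsg.Agent.S0675
import Cfsg.Agent.S0676
import Cfsg.Agent.S3611
import Cfsg.Agent.S3612

/-!
Owner: helper29. Insoluble groups of prime degree `q + 2`, `q` prime, with half of the affine normaliser are five-fold
transitive.
-/

set_option autoImplicit false

namespace CfsgLib.Recog.NeumannTwin

open MulAction Subgroup

variable {α : Type*} [Fintype α] [DecidableEq α]

theorem inj2 {β : Type*} {a b : β} (h : a ≠ b) : Function.Injective ![a, b] := by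
  intro i j e
  fin_cases i <;> fin_cases j <;> simp at e ⊢
  · exact h e
  · exact h e.symm

theorem inj3 {β : Type*} {a b c : β} (h1 : a ≠ b) (h2 : a ≠ c) (h3 : b ≠ c) : Function.Injective ![a, b, c] := by
  intro i j e
  fin_cases i <;> fin_cases j <;> simp at e ⊢
  · exact h1 e
  · exact h2 e
  · exact h1 e.symm
  · exact h3 e
  · exact h2 e.symm
  · exact h3 e.symm

/-- The three-fold transitivity. -/
theorem three_transitive (G : Subgroup (Equiv.Perm α)) {p q : ℕ} [Fact p.Prime] (hq : q.Prime) (hq5 : 5 < q)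
    (hc : Fintype.card α = p) (hpq : p = q + 2) [IsPretransitive G α] (hins : ¬ Group.IsSolvable G) (P : Sylow p G)
    (hN : 2 * Nat.card (normalizer ((P : Subgroup G) : Set G)) = p * (p - 1)) :
    IsMultiplyPretransitive G α 3 := by
  classical
  have hp : p.Prime := Fact.out
  have hΩ : Nat.card α = p := by rw [Nat.card_eq_fintype_card, hc]
  by_cases hp3 : p % 4 = 3
  · refine (Cfsg.Agent.S3611.result p hp hΩ inferInstance hins P hN hp3).resolve_right fun h4 => ?_
    have h2 : IsMultiplyPretransitive G α 2 := (Cfsg.Agent.S0675.result (hc ▸ hp) G).resolve_left hins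
    rw [is_two_pretransitive_iff] at h2
    obtain ⟨a⟩ : Nonempty α := Fintype.card_pos_iff.1 (by rw [hc]; exact hp.pos)
    set X := SubMulAction.ofStabilizer G a with hX
    have := Cfsg.Agent.S3612.result p hp hΩ inferInstance hins P hN (by omega) a
    obtain ⟨b, hba⟩ : ∃ b : α, b ≠ a := Fintype.exists_ne_of_one_lt_card (by rw [hc]; exact hp.one_lt) a
    let b' : X := ⟨b, fun h => hba (Set.mem_singleton_iff.1 h)⟩
    set K := stabilizer G a ⊓ stabilizer G b with hK
    -- the orbits of the two-point stabiliser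
    have hfix : ∀ (h : K), (h : G) • a = a ∧ (h : G) • b = b := fun h => h.2
    let pr : α → orbitRel.Quotient K α := fun x => Quotient.mk'' x
    have hpr : ∀ x y, pr x = pr y ↔ x ∈ orbit K y := fun x y => ⟨fun h => Quotient.exact' h, fun h => Quotient.sound' h⟩
    have hone : ∀ x, x = a ∨ x = b → ∀ y, pr y = pr x → y = x := by
      intro x hx y hy
      obtain ⟨h, rfl⟩ := (hpr y x).1 hy
      rcases hx with rfl | rfl
      · exact (hfix h).1
      · exact (hfix h).2
    have := Fintype.ofFinite (orbitRel.Quotient K α)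
    have h4' := h4 a b hba.symm
    rw [Nat.card_eq_fintype_card] at h4'
    have hab' : pr a ≠ pr b := fun h => hba (hone a (Or.inl rfl) b h.symm)
    have hrest : ((Finset.univ.erase (pr a)).erase (pr b)).card = 2 := by
      rw [Finset.card_erase_of_mem (by simpa using hab'.symm), Finset.card_erase_of_mem (Finset.mem_univ _),
        Finset.card_univ, h4']
    obtain ⟨u, v, huv, he⟩ := Finset.card_eq_two.1 hrest
    obtain ⟨c, rfl⟩ := Quotient.mk''_surjective u
    obtain ⟨d, rfl⟩ := Quotient.mk''_surjective v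
    have hmem : ∀ z, z ∈ ({pr c, pr d} : Finset _) ↔ z ≠ pr b ∧ z ≠ pr a := by
      intro z
      show z ∈ ({Quotient.mk'' c, Quotient.mk'' d} : Finset (orbitRel.Quotient K α)) ↔ _
      rw [← he]
      simp [Finset.mem_erase]
    have hne : ∀ x, x = c ∨ x = d → x ≠ a ∧ x ≠ b := by
      rintro x hx
      have := (hmem (pr x)).1 (by rcases hx with rfl | rfl <;> simp)
      exact ⟨fun h => this.2 (h ▸ rfl), fun h => this.1 (h ▸ rfl)⟩
    have hcov : ∀ y, y ≠ a → y ≠ b → y ∈ orbit K c ∨ y ∈ orbit K d := by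
      intro y hya hyb
      have := (hmem (pr y)).2 ⟨fun h => hyb (hone b (Or.inr rfl) y h), fun h => hya (hone a (Or.inl rfl) y h)⟩
      rcases Finset.mem_insert.1 this with h | h
      · exact Or.inl ((hpr _ _).1 h)
      · exact Or.inr ((hpr _ _).1 (Finset.mem_singleton.1 h))
    -- transfer to the point stabiliser
    let c' : X := ⟨c, fun h => (hne c (Or.inl rfl)).1 (Set.mem_singleton_iff.1 h)⟩
    let d' : X := ⟨d, fun h => (hne d (Or.inr rfl)).1 (Set.mem_singleton_iff.1 h)⟩
    have horb : ∀ z : X, Subtype.val '' orbit (stabilizer (stabilizer G a) b') z = orbit K (z : α) := by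
      intro z
      ext y
      constructor
      · rintro ⟨_, ⟨h, rfl⟩, rfl⟩
        exact ⟨⟨((h : stabilizer G a) : G), (h : stabilizer G a).2, congrArg Subtype.val h.2⟩, rfl⟩
      · rintro ⟨h, rfl⟩
        exact ⟨(⟨⟨(h : G), (hfix h).1⟩, Subtype.ext (hfix h).2⟩ : stabilizer (stabilizer G a) b') • z,
          ⟨_, rfl⟩, rfl⟩
    have hn : ∀ z : X, (orbit (stabilizer (stabilizer G a) b') z).ncard = (orbit K (z : α)).ncard := fun z => by
      rw [← horb, Set.ncard_image_of_injective _ Subtype.val_injective]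
    have hcover' : ∀ y : X, y ≠ b' → y ∈ orbit (stabilizer (stabilizer G a) b') c' ∨
        y ∈ orbit (stabilizer (stabilizer G a) b') d' := by
      intro y hy
      rcases hcov (y : α) (fun h => y.2 (Set.mem_singleton_iff.2 h)) (fun h => hy (Subtype.ext h)) with h | h
      · rw [show c = (c' : α) from rfl, ← horb, Function.Injective.mem_set_image Subtype.val_injective] at h
        exact Or.inl h
      · rw [show d = (d' : α) from rfl, ← horb, Function.Injective.mem_set_image Subtype.val_injective] at h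
        exact Or.inr h
    have hsum : (orbit K c).ncard + (orbit K d).ncard = q := by
      have hdis : Disjoint (orbit K c) (orbit K d) := Set.disjoint_left.2 fun z h1 h2 =>
        huv (((hpr z c).2 h1).symm.trans ((hpr z d).2 h2))
      have hU : orbit K c ∪ orbit K d = ({a, b} : Set α)ᶜ := by
        ext z
        simp only [Set.mem_union, Set.mem_compl_iff, Set.mem_insert_iff, Set.mem_singleton_iff, not_or]
        refine ⟨fun h => ?_, fun h => hcov z h.1 h.2⟩
        rcases h with h | h
        · exact ⟨fun e => (hne c (Or.inl rfl)).1 (hone a (Or.inl rfl) c (e ▸ ((hpr z c).2 h).symm)),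
            fun e => (hne c (Or.inl rfl)).2 (hone b (Or.inr rfl) c (e ▸ ((hpr z c).2 h).symm))⟩
        · exact ⟨fun e => (hne d (Or.inr rfl)).1 (hone a (Or.inl rfl) d (e ▸ ((hpr z d).2 h).symm)),
            fun e => (hne d (Or.inr rfl)).2 (hone b (Or.inr rfl) d (e ▸ ((hpr z d).2 h).symm))⟩
      rw [← Set.ncard_union_eq hdis (Set.toFinite _) (Set.toFinite _), hU, Set.ncard_compl, hΩ,
        Set.ncard_pair hba.symm]
      omega
    have hco : Nat.Coprime (orbit K c).ncard (orbit K d).ncard := by
      have hc1 : 0 < (orbit K c).ncard := (Set.ncard_pos (Set.toFinite _)).2 (nonempty_orbit _)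
      have hd1 : 0 < (orbit K d).ncard := (Set.ncard_pos (Set.toFinite _)).2 (nonempty_orbit _)
      have h : Nat.Coprime (orbit K c).ncard q :=
        ((hq.coprime_iff_not_dvd).2 fun h => absurd (Nat.le_of_dvd hc1 h) (by omega)).symm
      rw [← hsum] at h
      exact Nat.coprime_self_add_right.1 h
    have hbc : c' ≠ b' := fun h => (hne c (Or.inl rfl)).2 (congrArg Subtype.val h)
    have hbd : d' ≠ b' := fun h => (hne d (Or.inr rfl)).2 (congrArg Subtype.val h)
    rcases lt_trichotomy (orbit K c).ncard (orbit K d).ncard with h | h | h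
    · exact false_of_suborbits b' c' d' hbc hcover' hbd (by rw [hn, hn]; exact h) (by rw [hn, hn]; exact hco)
    · have := hq.odd_of_ne_two (by omega)
      rw [← hsum, h] at this
      exact absurd this (by simp [Nat.not_odd_iff_even])
    · exact false_of_suborbits b' d' c' hbd (fun y hy => (hcover' y hy).symm) hbc (by rw [hn, hn]; exact h)
        (by rw [hn, hn]; exact hco.symm)
  · refine Cfsg.Agent.S0676.result hc G hins P ?_
    obtain ⟨k, hk⟩ := hp.odd_of_ne_two (by omega)
    have hk2 : p - 1 = 4 * (k / 2) := by omega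
    rw [hk2] at hN
    exact ⟨p * (k / 2), by linarith⟩

/-- The arithmetic excluding a solvable two-point stabiliser. -/
theorem no_solvable {p q d : ℕ} (hp : p.Prime) (hq5 : 5 < q) (hq : q.Prime) (hpq : p = q + 2) (hd : d ∣ q - 1)
    (hmod : 2 * q * d ≡ 1 [MOD p]) : False := by
  have hle := Nat.le_of_dvd (by omega) hd
  have h4 : p ∣ 4 * d + 1 := by
    have h1 : 4 * d + 2 * q * d = p * (2 * d) := by rw [hpq]; ring
    have h2 : 4 * d + 2 * q * d ≡ 4 * d + 1 [MOD p] := Nat.ModEq.add_left _ hmod
    rw [h1] at h2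
    exact Nat.modEq_zero_iff_dvd.1 (h2.symm.trans (Nat.modEq_zero_iff_dvd.2 (Dvd.intro _ rfl)))
  obtain ⟨k, hk⟩ := h4
  have hk4 : k < 4 := by
    by_contra h
    have : p * 4 ≤ p * k := Nat.mul_le_mul_left p (by omega)
    omega
  obtain ⟨j, hj⟩ := hd
  interval_cases k
  · omega
  · have h2 : d ∣ 2 := by
      have h : d ∣ 4 * d - 2 := ⟨j, by omega⟩
      have h' := Nat.dvd_sub (dvd_mul_left d 4) h
      rwa [show 4 * d - (4 * d - 2) = 2 by omega] at h'
    have := Nat.le_of_dvd two_pos h2
    rw [show p = 9 by omega] at hp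
    norm_num at hp
  · omega
  · have h8 : d ∣ 8 := by
      have h : d ∣ 4 * d - 8 := ⟨3 * j, by rw [mul_left_comm]; omega⟩
      have h' := Nat.dvd_sub (dvd_mul_left d 4) h
      by_cases hd2 : 2 ≤ d
      · rwa [show 4 * d - (4 * d - 8) = 8 by omega] at h'
      · omega
    have := Nat.le_of_dvd (by norm_num) h8
    interval_cases d
    all_goals try omega
    rw [show q = 9 by omega] at hq
    norm_num at hq

set_option maxHeartbeats 4000000 in
/-- The five-fold transitivity. -/
theorem five_transitive (G : Subgroup (Equiv.Perm α)) {p q : ℕ} [Fact p.Prime] (hq : q.Prime) (hq5 : 5 < q)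
    (hc : Fintype.card α = p) (hpq : p = q + 2) [IsPretransitive G α] (hins : ¬ Group.IsSolvable G) (P : Sylow p G)
    (hN : 2 * Nat.card (normalizer ((P : Subgroup G) : Set G)) = p * (p - 1)) :
    IsMultiplyPretransitive G α 5 := by
  classical
  have hp : p.Prime := Fact.out
  have := Fact.mk hq
  have h3 := three_transitive G hq hq5 hc hpq hins P hN
  have h2 : IsMultiplyPretransitive G α 2 := (Cfsg.Agent.S0675.result (hc ▸ hp) G).resolve_left hins
  have main : ∀ a b : α, a ≠ b → ∀ u v : Fin 3 → α, Function.Injective u → Function.Injective v →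
      (∀ i, u i ≠ a ∧ u i ≠ b) → (∀ i, v i ≠ a ∧ v i ≠ b) → ∃ g ∈ G, g a = a ∧ g b = b ∧ ∀ i, g (u i) = v i := by
    intro a b hab
    -- the rest
    let X := {x : α // x ≠ a ∧ x ≠ b}
    have hXc : Fintype.card X = q := by
      rw [Fintype.card_subtype]
      have : (Finset.univ.filter fun x => x ≠ a ∧ x ≠ b) = (Finset.univ.erase a).erase b := by ext; simp [and_comm]
      rw [this, Finset.card_erase_of_mem (by simp [hab.symm]), Finset.card_erase_of_mem (Finset.mem_univ _),
        Finset.card_univ, hc]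
      omega
    -- the stabiliser of the pair
    let S : Subgroup G :=
      { carrier := {g | ((g : Equiv.Perm α) a = a ∧ (g : Equiv.Perm α) b = b) ∨
          ((g : Equiv.Perm α) a = b ∧ (g : Equiv.Perm α) b = a)}
        mul_mem' := by
          rintro g h (⟨g1, g2⟩ | ⟨g1, g2⟩) (⟨h1, h2⟩ | ⟨h1, h2⟩) <;> simp [h1, h2, g1, g2]
        one_mem' := Or.inl ⟨rfl, rfl⟩
        inv_mem' := by
          rintro g (⟨g1, g2⟩ | ⟨g1, g2⟩)
          · exact Or.inl ⟨Equiv.Perm.inv_eq_iff_eq.2 g1.symm, Equiv.Perm.inv_eq_iff_eq.2 g2.symm⟩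
          · exact Or.inr ⟨Equiv.Perm.inv_eq_iff_eq.2 g2.symm, Equiv.Perm.inv_eq_iff_eq.2 g1.symm⟩ }
    have hSX : ∀ (g : S) (x : α), ((g : G) : Equiv.Perm α) x ≠ a ∧ ((g : G) : Equiv.Perm α) x ≠ b ↔ x ≠ a ∧ x ≠ b := by
      intro g x
      set σ : Equiv.Perm α := ((g : G) : Equiv.Perm α)
      rcases g.2 with ⟨g1, g2⟩ | ⟨g1, g2⟩
      · exact and_congr (not_congr ⟨fun h => σ.injective (h.trans g1.symm), fun h => h ▸ g1⟩)
          (not_congr ⟨fun h => σ.injective (h.trans g2.symm), fun h => h ▸ g2⟩)
      · have e1 : σ x = a ↔ x = b := ⟨fun h => σ.injective (h.trans g2.symm), fun h => h ▸ g2⟩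
        have e2 : σ x = b ↔ x = a := ⟨fun h => σ.injective (h.trans g1.symm), fun h => h ▸ g1⟩
        rw [Ne, Ne, e1, e2]
        exact and_comm
    let ρ : S →* Equiv.Perm X :=
      { toFun := fun g => ((g : G) : Equiv.Perm α).subtypePerm (hSX g)
        map_one' := by ext; rfl
        map_mul' := fun g h => by ext; rfl }
    set H : Subgroup S := ((stabilizer G a ⊓ stabilizer G b : Subgroup G)).subgroupOf S with hH
    have hHmem : ∀ g : S, g ∈ H ↔ ((g : G) : Equiv.Perm α) a = a := fun g => by
      rw [hH, mem_subgroupOf]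
      refine ⟨fun h => h.1, fun h => ⟨h, ?_⟩⟩
      rcases g.2 with ⟨-, g2⟩ | ⟨g1, -⟩
      · exact g2
      · exact absurd ((h.symm.trans g1) : a = b) hab
    have hle : (stabilizer G a ⊓ stabilizer G b : Subgroup G) ≤ S := fun g hg => Or.inl hg
    have mvX : ∀ u v : α, u ≠ a ∧ u ≠ b → v ≠ a ∧ v ≠ b → ∃ g ∈ G, g a = a ∧ g b = b ∧ g u = v := by
      intro u v hu hv
      obtain ⟨g, hg, he⟩ := exists_map G h3 ![a, b, u] ![a, b, v]
        (inj3 hab (Ne.symm hu.1) (Ne.symm hu.2)) (inj3 hab (Ne.symm hv.1) (Ne.symm hv.2))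
      exact ⟨g, hg, he 0, he 1, he 2⟩
    set R0 := H.map ρ with hR0
    have hR0t : IsPretransitive R0 X := ⟨fun x y => by
      obtain ⟨g, hg, g1, g2, g3⟩ := mvX x.1 y.1 x.2 y.2
      exact ⟨⟨ρ ⟨⟨g, hg⟩, Or.inl ⟨g1, g2⟩⟩, mem_map_of_mem ρ ((hHmem _).2 g1)⟩, Subtype.ext g3⟩⟩
    obtain ⟨x0⟩ : Nonempty X := Fintype.card_pos_iff.1 (by rw [hXc]; exact hq.pos)
    -- no transposition
    have hρinj : Function.Injective ρ := by
      rw [← MonoidHom.ker_eq_bot_iff, eq_bot_iff]
      intro g hg
      set σ : Equiv.Perm α := ((g : G) : Equiv.Perm α) with hσ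
      have hx : ∀ x, x ≠ a → x ≠ b → σ x = x := fun x h1 h2 =>
        congrArg Subtype.val (DFunLike.congr_fun hg (⟨x, h1, h2⟩ : X))
      rcases g.2 with ⟨g1, g2⟩ | ⟨g1, g2⟩
      · refine mem_bot.2 (Subtype.ext (Subtype.ext (Equiv.Perm.ext fun x => ?_)))
        by_cases h1 : x = a
        · subst h1; exact g1
        by_cases h2 : x = b
        · subst h2; exact g2
        exact hx x h1 h2
      · exfalso
        have hsw : σ = Equiv.swap a b := by
          refine Equiv.ext fun x => ?_
          by_cases h1 : x = a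
          · subst h1; rw [Equiv.swap_apply_left]; exact g1
          by_cases h2 : x = b
          · subst h2; rw [Equiv.swap_apply_right]; exact g2
          rw [Equiv.swap_apply_of_ne_of_ne h1 h2, hx x h1 h2]
        have hpre : IsPreprimitive G α := isPreprimitive_of_is_two_pretransitive h2
        have htop := Equiv.Perm.subgroup_eq_top_of_isPreprimitive_of_isSwap_mem hpre σ ⟨a, b, hab, hsw⟩ (g : G).2
        -- the normaliser in the whole symmetric group is too big
        have hPc : Nat.card (Sylow p G) * Nat.card (normalizer ((P : Subgroup G) : Set G)) = Nat.card G := by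
          rw [Sylow.card_eq_index_normalizer P]
          exact Subgroup.index_mul_card _
        have hGc : Nat.card G = p.factorial := by
          rw [htop, Subgroup.card_top, Nat.card_perm, Nat.card_eq_fintype_card, hc]
        have hmod := card_sylow_modEq_one p G
        have hfac : p.factorial = p * (p - 1) * (p - 2).factorial := by
          rw [hpq, show q + 2 - 2 = q from rfl, show q + 2 - 1 = q + 1 from rfl, Nat.factorial_succ (q + 1),
            Nat.factorial_succ q]
          ring
        have hn : Nat.card (Sylow p G) = 2 * (p - 2).factorial := by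
          refine Nat.eq_of_mul_eq_mul_right (show 0 < p * (p - 1) from Nat.mul_pos hp.pos (by omega)) ?_
          rw [← hN, ← mul_assoc, mul_comm (Nat.card (Sylow p G)) 2, mul_assoc 2 (Nat.card (Sylow p G)), hPc, hGc, hfac,
            hN]
          ring
        rw [hn] at hmod
        -- Wilson
        have hw := ZMod.wilsons_lemma p
        rw [← ZMod.natCast_eq_natCast_iff] at hmod
        push_cast at hmod
        have hf : (((p - 1).factorial : ℕ) : ZMod p) = ((p - 1 : ℕ) : ZMod p) * (((p - 2).factorial : ℕ) : ZMod p) := by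
          rw [← Nat.cast_mul]
          congr 1
          rw [show p - 1 = (p - 2) + 1 by omega, Nat.factorial_succ]
        have hm1 : ((p - 1 : ℕ) : ZMod p) = -1 := by
          rw [Nat.cast_sub hp.one_le, ZMod.natCast_self]; simp
        rw [hf, hm1, neg_one_mul, neg_inj] at hw
        rw [hw, mul_one] at hmod
        exact one_ne_zero (α := ZMod p) (by linear_combination hmod)
    -- insolubility
    have hR0s : ¬ Group.IsSolvable R0 := by
      intro hs
      have hd := stabilizer_dvd R0 hq (by rw [Nat.card_eq_fintype_card, hXc]) x0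
      have hidx := (stabilizer R0 x0).index_mul_card
      rw [MulAction.index_stabilizer_of_transitive R0 x0, Nat.card_eq_fintype_card (α := X), hXc] at hidx
      have hGc := card_eq_pairs G h2 hab
      rw [← Nat.card_congr (subgroupOfEquivOfLe hle).toEquiv, ← hH,
        Nat.card_congr (H.equivMapOfInjective ρ hρinj).toEquiv, ← hR0, hc, ← hidx] at hGc
      refine no_solvable hp hq5 hq hpq hd ?_
      have hn : Nat.card (Sylow p G) = 2 * q * Nat.card (stabilizer R0 x0) := by
        have hPc : Nat.card (Sylow p G) * Nat.card (normalizer ((P : Subgroup G) : Set G)) = Nat.card G := by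
          rw [Sylow.card_eq_index_normalizer P]
          exact Subgroup.index_mul_card _
        refine Nat.eq_of_mul_eq_mul_right (show 0 < p * (p - 1) from Nat.mul_pos hp.pos (by omega)) ?_
        rw [← hN, ← mul_assoc, mul_comm (Nat.card (Sylow p G)) 2, mul_assoc 2 (Nat.card (Sylow p G)), hPc, hGc, hN]
        ring
      have := card_sylow_modEq_one p G
      rwa [hn] at this
    -- the swap
    obtain ⟨w, hw⟩ : ∃ w : S, w ∉ H := by
      obtain ⟨g, hg, he⟩ := exists_map G h2 ![a, b] ![b, a]
        (inj2 hab) (inj2 hab.symm)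
      exact ⟨⟨⟨g, hg⟩, Or.inr ⟨he 0, he 1⟩⟩, fun h => hab.symm ((he 0).symm.trans ((hHmem _).1 h))⟩
    have hidx2 : ∀ g h : S, g ∉ H → h ∉ H → g * h ∈ H := by
      intro g h hg hh
      rw [hHmem] at hg hh ⊢
      rcases g.2 with ⟨g1, g2⟩ | ⟨g1, g2⟩
      · exact absurd g1 hg
      rcases h.2 with ⟨h1, h2⟩ | ⟨h1, h2⟩
      · exact absurd h1 hh
      show ((g : G) : Equiv.Perm α) (((h : G) : Equiv.Perm α) a) = a
      rw [h1, g2]
    have hHn : H.Normal := ⟨fun n hn g => by
      by_cases hg : g ∈ H
      · exact mul_mem (mul_mem hg hn) (inv_mem hg)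
      · refine hidx2 (g * n) g⁻¹ (fun h => hg ?_) (fun h => hg ((inv_mem_iff).1 h))
        simpa using mul_mem h (inv_mem hn)⟩
    set R := ρ.range with hR
    have hR0R : R0 ≤ R := Subgroup.map_le_range _ _
    have hRt : IsPretransitive R X := ⟨fun x y => by
      obtain ⟨g, hg⟩ := hR0t.exists_smul_eq x y
      exact ⟨⟨g.1, hR0R g.2⟩, hg⟩⟩
    have hRs : ¬ Group.IsSolvable R := fun h => hR0s (by
      have := h
      exact Group.isSolvable_of_isSolvable_injective (Subgroup.inclusion_injective hR0R))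
    -- an even normaliser
    let e : S ≃* R := MonoidHom.ofInjective hρinj
    obtain ⟨Q⟩ := (Sylow.nonempty : Nonempty (Sylow q S))
    have hQH : (Q : Subgroup S) ≤ H := by
      intro g hg
      by_contra hgH
      obtain ⟨k, hk⟩ := Q.isPGroup' ⟨g, hg⟩
      have hgk : g ^ (q ^ k) = 1 := congrArg Subtype.val hk
      obtain ⟨j, hj⟩ := (hq.odd_of_ne_two (by omega)).pow (n := k)
      rw [hj, pow_succ, pow_mul, pow_two] at hgk
      have hmem := pow_mem (hidx2 g g hgH hgH) j
      have : g = ((g * g) ^ j)⁻¹ := eq_inv_of_mul_eq_one_right hgk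
      exact hgH (this ▸ inv_mem hmem)
    have heven : Even (Nat.card (normalizer ((Q : Subgroup S) : Set S))) := by
      by_contra hodd
      rw [Nat.not_even_iff_odd] at hodd
      obtain ⟨j, hj⟩ := hodd
      have hNH : normalizer ((Q : Subgroup S) : Set S) ≤ H := by
        intro g hg
        by_contra hgH
        have hgk : g ^ (2 * j + 1) = 1 := by
          rw [← hj]
          exact congrArg Subtype.val (pow_card_eq_one' (x := (⟨g, hg⟩ : normalizer ((Q : Subgroup S) : Set S))))
        rw [pow_succ, pow_mul, pow_two] at hgk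
        have : g = ((g * g) ^ j)⁻¹ := eq_inv_of_mul_eq_one_right hgk
        exact hgH (this ▸ inv_mem (pow_mem (hidx2 g g hgH hgH) j))
      have h := Sylow.normalizer_sup_eq_top' Q hQH
      exact hw (h.symm.le.trans (sup_le hNH le_rfl) (mem_top w))
    let QR : Sylow q R := Q.mapSurjective (f := e.toMonoidHom) e.surjective
    have hevenR : Even (Nat.card (normalizer ((QR : Subgroup R) : Set R))) := by
      rw [show (QR : Subgroup R) = (Q : Subgroup S).map e.toMonoidHom from Sylow.coe_mapSurjective e.surjective Q,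
        ← Subgroup.map_equiv_normalizer_eq (Q : Subgroup S) e]
      exact (Nat.card_congr (Subgroup.equivMapOfInjective _ e.toMonoidHom e.injective).toEquiv) ▸ heven
    have hR3 := Cfsg.Agent.S0676.result hXc R hRs QR hevenR
    have hR02 : IsMultiplyPretransitive R0 X 2 := (Cfsg.Agent.S0675.result (hXc ▸ hq) R0).resolve_left hR0s
    -- three-fold transitivity of the smaller group
    intro u v hu hv hua hva
    let U : Fin 3 → X := fun i => ⟨u i, hua i⟩
    let V : Fin 3 → X := fun i => ⟨v i, hva i⟩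
    have hV : Function.Injective V := fun i j h => hv (congrArg Subtype.val h)
    have hU : Function.Injective U := fun i j h => hu (congrArg Subtype.val h)
    obtain ⟨g1, hg1, he1⟩ := exists_map R0 hR02 ![U 0, U 1] ![V 0, V 1]
      (inj2 (hU.ne (by decide))) (inj2 (hV.ne (by decide)))
    have e10 : g1 (U 0) = V 0 := he1 0
    have e11 : g1 (U 1) = V 1 := he1 1
    set y0 := V 0
    set y1 := V 1
    let O : Finset X := Finset.univ.filter fun z => ∃ h ∈ R0, h y0 = y0 ∧ h y1 = y1 ∧ h (g1 (U 2)) = z
    have hx2 : g1 (U 2) ≠ y0 ∧ g1 (U 2) ≠ y1 :=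
      ⟨fun h => absurd (hU (g1.injective (h.trans e10.symm))) (by decide),
        fun h => absurd (hU (g1.injective (h.trans e11.symm))) (by decide)⟩
    have hv2 : V 2 ≠ y0 ∧ V 2 ≠ y1 :=
      ⟨fun h => absurd (hV h) (by decide), fun h => absurd (hV h) (by decide)⟩
    obtain ⟨h, hh, h0, h1, h2'⟩ : ∃ h ∈ R0, h y0 = y0 ∧ h y1 = y1 ∧ h (g1 (U 2)) = V 2 := by
      by_contra hno
      have hy01 : y0 ≠ y1 := fun h => absurd (hV h) (by decide)
      have hmove : ∀ z, z ≠ y0 → z ≠ y1 → ∃ r ∈ R, r y0 = y0 ∧ r y1 = y1 ∧ r (g1 (U 2)) = z := by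
        intro z hz0 hz1
        obtain ⟨r, hr, he⟩ := exists_map R hR3 ![y0, y1, g1 (U 2)] ![y0, y1, z]
          (inj3 hy01 (Ne.symm hx2.1) (Ne.symm hx2.2)) (inj3 hy01 (Ne.symm hz0) (Ne.symm hz1))
        exact ⟨r, hr, he 0, he 1, he 2⟩
      obtain ⟨r, hr, r0, r1, r2⟩ := hmove (V 2) hv2.1 hv2.2
      obtain ⟨s, rfl⟩ := MonoidHom.mem_range.1 hr
      have hsH : s ∉ H := fun h => hno ⟨ρ s, mem_map_of_mem ρ h, r0, r1, r2⟩
      have key : ∀ z, z ∈ (Finset.univ.erase y0).erase y1 ↔ z ∈ O ∪ O.image (ρ s) := by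
        intro z
        simp only [Finset.mem_erase, Finset.mem_univ, and_true, Finset.mem_union, Finset.mem_image, O,
          Finset.mem_filter, true_and]
        constructor
        · rintro ⟨hz1, hz0⟩
          obtain ⟨t, ht, t0, t1, t2⟩ := hmove z hz0 hz1
          obtain ⟨t', rfl⟩ := MonoidHom.mem_range.1 ht
          by_cases htH : t' ∈ H
          · exact Or.inl ⟨ρ t', mem_map_of_mem ρ htH, t0, t1, t2⟩
          · refine Or.inr ⟨(ρ s)⁻¹ z, ⟨ρ (s⁻¹ * t'), mem_map_of_mem ρ
              (hidx2 _ _ (fun h => hsH (inv_mem_iff.1 h)) htH), ?_, ?_, ?_⟩, Equiv.apply_symm_apply _ _⟩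
            · rw [map_mul, map_inv, Equiv.Perm.mul_apply, t0]; exact Equiv.Perm.inv_eq_iff_eq.2 r0.symm
            · rw [map_mul, map_inv, Equiv.Perm.mul_apply, t1]; exact Equiv.Perm.inv_eq_iff_eq.2 r1.symm
            · rw [map_mul, map_inv, Equiv.Perm.mul_apply, t2]
        · rintro (⟨h, -, h0, h1, rfl⟩ | ⟨z', ⟨h, -, h0, h1, rfl⟩, rfl⟩)
          · exact ⟨fun e => hx2.2 (h.injective (e.trans h1.symm)), fun e => hx2.1 (h.injective (e.trans h0.symm))⟩
          · exact ⟨fun e => hx2.2 (h.injective (((ρ s).injective (e.trans r1.symm)).trans h1.symm)),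
              fun e => hx2.1 (h.injective (((ρ s).injective (e.trans r0.symm)).trans h0.symm))⟩
      have hdis : Disjoint O (O.image (ρ s)) := by
        rw [Finset.disjoint_left]
        intro z hz hz'
        simp only [O, Finset.mem_image, Finset.mem_filter, Finset.mem_univ, true_and] at hz hz'
        obtain ⟨h', hh', h'0, h'1, rfl⟩ := hz
        obtain ⟨_, ⟨h, hh, h0, h1, rfl⟩, he⟩ := hz'
        obtain ⟨k, hk, rfl⟩ := hh
        obtain ⟨k', hk', rfl⟩ := hh'
        refine hno ⟨ρ ((s * k⁻¹ * s⁻¹) * k'), mem_map_of_mem ρ (mul_mem (hHn.conj_mem _ (inv_mem hk) s) hk'), ?_, ?_, ?_⟩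
        · simp only [map_mul, map_inv, Equiv.Perm.mul_apply]
          rw [h'0, Equiv.Perm.inv_eq_iff_eq.2 r0.symm, Equiv.Perm.inv_eq_iff_eq.2 h0.symm, r0]
        · simp only [map_mul, map_inv, Equiv.Perm.mul_apply]
          rw [h'1, Equiv.Perm.inv_eq_iff_eq.2 r1.symm, Equiv.Perm.inv_eq_iff_eq.2 h1.symm, r1]
        · simp only [map_mul, map_inv, Equiv.Perm.mul_apply]
          rw [← he, Equiv.Perm.coe_inv, Equiv.Perm.coe_inv, Equiv.symm_apply_apply, Equiv.symm_apply_apply, r2]
      have hcard := congrArg Finset.card (Finset.ext key)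
      rw [Finset.card_erase_of_mem (by simp [hy01.symm]), Finset.card_erase_of_mem (Finset.mem_univ _),
        Finset.card_univ, hXc, Finset.card_union_of_disjoint hdis,
        Finset.card_image_of_injective _ (ρ s).injective] at hcard
      obtain ⟨i, hi⟩ := hq.odd_of_ne_two (by omega)
      omega
    obtain ⟨k, hk, hke⟩ := Subgroup.mem_map.1 (mul_mem hh hg1)
    refine ⟨((k : G) : Equiv.Perm α), (k : G).2, (hHmem k).1 hk, (mem_subgroupOf.1 hk).2, fun i => ?_⟩
    have hi : ρ k (U i) = V i := by
      rw [hke, Equiv.Perm.mul_apply]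
      fin_cases i
      · exact (congrArg h e10).trans h0
      · exact (congrArg h e11).trans h1
      · exact h2'
    exact congrArg Subtype.val hi
  refine ⟨fun u v => ?_⟩
  obtain ⟨g, hg, he⟩ := exists_map G h2 ![u 0, u 1] ![v 0, v 1]
    (inj2 (u.injective.ne (by decide))) (inj2 (v.injective.ne (by decide)))
  have g0 : g (u 0) = v 0 := he 0
  have g1 : g (u 1) = v 1 := he 1
  obtain ⟨k, hk, k0, k1, k2⟩ := main (v 0) (v 1) (fun h => absurd (v.injective h) (by decide))
    ![g (u 2), g (u 3), g (u 4)] ![v 2, v 3, v 4]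
    (inj3 (g.injective.ne (u.injective.ne (by decide))) (g.injective.ne (u.injective.ne (by decide)))
      (g.injective.ne (u.injective.ne (by decide))))
    (inj3 (v.injective.ne (by decide)) (v.injective.ne (by decide)) (v.injective.ne (by decide)))
    (fun i => by rw [← g0, ← g1]; fin_cases i <;> simp [u.injective.eq_iff, g.injective.eq_iff])
    (fun i => by fin_cases i <;> simp [v.injective.eq_iff])
  refine ⟨⟨k * g, mul_mem hk hg⟩, Function.Embedding.ext fun i => ?_⟩
  show k (g (u i)) = v i
  fin_cases i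
  · exact (congrArg k g0).trans k0
  · exact (congrArg k g1).trans k1
  · exact k2 0
  · exact k2 1
  · exact k2 2

end CfsgLib.Recog.NeumannTwin
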