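import Cfsg.Agent.S0800

/-!
Owner: helper29. `PSL(2, p)`, `p ≡ 3 (mod 4)`, has no element of order `2l` with `l > 1` dividing `(p - 1) / 2`.
-/

set_option autoImplicit false

namespace CfsgLib.Recog.NeumannTwin

open Matrix
open scoped MatrixGroups

theorem central_of_sq_eq_one {F : Type*} [Field F] (h2 : (2 : F) ≠ 0) (g : SL(2, F)) (hg : g * g = 1) :
    g ∈ Subgroup.center (SL(2, F)) := by
  have h := congrArg (fun x : SL(2, F) => (x : Matrix (Fin 2) (Fin 2) F)) hg
  simp only [Matrix.SpecialLinearGroup.coe_mul, Matrix.SpecialLinearGroup.coe_one] at h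
  set M : Matrix (Fin 2) (Fin 2) F := (g : Matrix (Fin 2) (Fin 2) F) with hM
  have hd : M.det = 1 := g.2
  rw [Matrix.det_fin_two] at hd
  have e00 := congrArg (fun A => A 0 0) h
  have e01 := congrArg (fun A => A 0 1) h
  have e10 := congrArg (fun A => A 1 0) h
  have e11 := congrArg (fun A => A 1 1) h
  simp [Matrix.mul_apply, Fin.sum_univ_two] at e00 e01 e10 e11
  have ha : M 0 0 * (M 0 0 + M 1 1) = 2 := by linear_combination e00 + hd
  have hd' : M 1 1 * (M 0 0 + M 1 1) = 2 := by linear_combination e11 + hd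
  have ht : M 0 0 + M 1 1 ≠ 0 := fun e => h2 (by rw [← ha, e, mul_zero])
  have h01 : M 0 1 = 0 := (mul_eq_zero.1 (by linear_combination e01 : M 0 1 * (M 0 0 + M 1 1) = 0)).resolve_right ht
  have h10 : M 1 0 = 0 := (mul_eq_zero.1 (by linear_combination e10 : M 1 0 * (M 0 0 + M 1 1) = 0)).resolve_right ht
  have h11 : M 1 1 = M 0 0 := mul_right_cancel₀ ht (hd'.trans ha.symm)
  rw [Matrix.SpecialLinearGroup.mem_center_iff]
  refine ⟨M 0 0, ?_, ?_⟩
  · rw [Fintype.card_fin, pow_two]
    rw [h01, zero_mul, sub_zero, h11] at hd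
    exact hd
  · refine Matrix.ext fun i j => ?_
    fin_cases i <;> fin_cases j <;> simp [Matrix.scalar_apply, ← hM, h01, h10, h11]

theorem eq_one_of_orderOf_two_mul {p : ℕ} [Fact p.Prime] (hp3 : p % 4 = 3)
    (x : Matrix.ProjectiveSpecialLinearGroup (Fin 2) (ZMod p)) {l : ℕ} (hx : orderOf x = 2 * l)
    (hl : l ∣ (p - 1) / 2) : l = 1 := by
  have hp : p.Prime := Fact.out
  have h2 : (2 : ZMod p) ≠ 0 := by
    intro h
    have h' : ((2 : ℕ) : ZMod p) = 0 := by exact_mod_cast h
    rw [ZMod.natCast_eq_zero_iff] at h'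
    have := Nat.le_of_dvd two_pos h'
    omega
  have hm : 0 < (p - 1) / 2 := by omega
  have hlm := Nat.le_of_dvd hm hl
  have hl0 : 0 < l := Nat.pos_of_ne_zero fun h => by rw [h, Nat.zero_dvd] at hl; omega
  obtain ⟨g, rfl⟩ := QuotientGroup.mk_surjective x
  have hz : ∀ z ∈ Subgroup.center (SL(2, ZMod p)), z ^ 2 = 1 := by
    intro z hz
    obtain ⟨r, hr, he⟩ := Matrix.SpecialLinearGroup.mem_center_iff.1 hz
    refine Subtype.ext ?_
    rw [Matrix.SpecialLinearGroup.coe_pow, ← he, ← map_pow, ← Fintype.card_fin 2, hr, map_one]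
    rfl
  have hpow : ∀ n : ℕ, (QuotientGroup.mk g : Matrix.ProjectiveSpecialLinearGroup (Fin 2) (ZMod p)) ^ n = 1 ↔
      g ^ n ∈ Subgroup.center (SL(2, ZMod p)) := fun n => by
    rw [← QuotientGroup.mk_pow]
    exact QuotientGroup.eq_one_iff _
  have h4 : orderOf g ∣ 4 * l := orderOf_dvd_of_pow_eq_one (by
    have := hz _ ((hpow (2 * l)).1 (by rw [← hx]; exact pow_orderOf_eq_one _))
    rw [← pow_mul] at this
    rwa [show 4 * l = 2 * l * 2 by ring])
  have hn2 : ¬ orderOf g ∣ 2 * l := by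
    intro h
    have h' : g ^ l * g ^ l = 1 := by
      rw [← pow_add, ← two_mul]; exact orderOf_dvd_iff_pow_eq_one.1 h
    have := orderOf_dvd_of_pow_eq_one ((hpow l).2 (central_of_sq_eq_one h2 _ h'))
    rw [hx] at this
    have := Nat.le_of_dvd hl0 this
    omega
  have h2l : 2 * l ∣ orderOf g := hx ▸ orderOf_dvd_of_pow_eq_one ((hpow _).2 (by
    rw [pow_orderOf_eq_one]; exact one_mem _))
  have hg : orderOf g = 4 * l := by
    obtain ⟨c, hc⟩ := h2l
    rw [hc, show 4 * l = 2 * l * 2 by ring] at h4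
    rcases (Nat.dvd_prime Nat.prime_two).1 (Nat.dvd_of_mul_dvd_mul_left (by omega) h4) with rfl | rfl
    · exact absurd (by rw [hc, mul_one]) hn2
    · rw [hc]; ring
  have hco : Nat.Coprime (orderOf g) p := by
    rw [hg, Nat.coprime_comm, hp.coprime_iff_not_dvd]
    intro h
    rcases hp.dvd_mul.1 h with h | h
    · have h' := Nat.le_of_dvd (by norm_num) h
      have h3 : p = 3 := by omega
      subst h3
      norm_num at h
    · have := Nat.le_of_dvd hl0 h
      omega
  rcases Cfsg.Agent.S0800.result (ZMod.card p) p g hco with h | h <;> rw [hg] at h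
  · have := (dvd_mul_right 4 l).trans h
    omega
  · have h1 : l ∣ p + 1 := (dvd_mul_left l 4).trans h
    have h2' : l ∣ p - 1 := hl.trans (Nat.div_dvd_of_dvd (by omega))
    have h3 := Nat.dvd_sub h1 h2'
    rw [show p + 1 - (p - 1) = 2 by omega] at h3
    rcases (Nat.dvd_prime Nat.prime_two).1 h3 with rfl | rfl
    · rfl
    · omega

end CfsgLib.Recog.NeumannTwin
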