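import Mathlib

/-!
Owner: helper29. Groups of prime degree with a normal subgroup of that order, and Sylow normalisers of groups of even
permutations of prime degree.
-/

set_option autoImplicit false

namespace CfsgLib.Recog.NeumannTwin

open MulAction Subgroup

/-- A transitive group of prime degree `p` with a normal subgroup of order `p` is a Frobenius group with cyclic
complement of order dividing `p - 1`. -/
theorem of_normal {H X : Type*} [Group H] [Finite H] [MulAction H X] [FaithfulSMul H X] [Finite X] {p : ℕ}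
    [Fact p.Prime] (hX : Nat.card X = p) [IsPretransitive H X] (A : Subgroup H) [A.Normal] (hA : Nat.card A = p)
    (y : X) :
    (∀ h : H, h • y = y → ∀ z, z ≠ y → h • z = z → h = 1) ∧ IsCyclic (stabilizer H y) ∧
      Nat.card (stabilizer H y) ∣ p - 1 := by
  classical
  have hp : p.Prime := Fact.out
  have : IsPreprimitive H X := IsPreprimitive.of_prime_card (by rw [hX]; exact hp)
  have hA1 : A ≠ ⊥ := fun h => hp.one_lt.ne' (by rw [← hA, h, Subgroup.card_bot])
  have hAt : IsPretransitive A X := by
    refine IsQuasiPreprimitive.isPretransitive_of_normal fun hfix => hA1 ?_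
    rw [eq_bot_iff]
    intro a ha
    refine Subgroup.mem_bot.2 (FaithfulSMul.eq_of_smul_eq_smul (α := X) fun z => ?_)
    rw [one_smul]
    exact (Set.eq_univ_iff_forall.1 hfix z) ⟨a, ha⟩
  have hbij : Function.Bijective fun a : A => (a : H) • y :=
    Function.Surjective.bijective_of_nat_card_le (fun z => hAt.exists_smul_eq y z) (by rw [hA, hX])
  have hcen : ∀ h : H, h • y = y → (∀ a : A, h * (a : H) * h⁻¹ = a) → h = 1 := by
    intro h hy hc
    refine FaithfulSMul.eq_of_smul_eq_smul (α := X) fun z => ?_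
    obtain ⟨a, rfl⟩ := hbij.2 z
    simp only [one_smul]
    rw [← mul_smul, show h * (a : H) = (a : H) * h by rw [← mul_inv_eq_iff_eq_mul]; exact hc a, mul_smul, hy]
  have hcyc : IsCyclic A := isCyclic_of_prime_card hA
  refine ⟨fun h hy z hzy hz => hcen h hy fun b => ?_, ?_⟩
  · obtain ⟨a, rfl⟩ := hbij.2 z
    have ha : (MulAut.conjNormal h a : A) = a := hbij.1 (by
      show (h * (a : H) * h⁻¹) • y = (a : H) • y
      rw [mul_smul, mul_smul, inv_smul_eq_iff.2 hy.symm]
      exact hz)
    have ha1 : a ≠ 1 := fun e => hzy (by simp [e])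
    obtain ⟨n, rfl⟩ := mem_powers_of_prime_card hA (g' := b) ha1
    show h * ((a ^ n : A) : H) * h⁻¹ = ((a ^ n : A) : H)
    rw [Subgroup.coe_pow, ← conj_pow]
    exact congrArg (· ^ n) (congrArg Subtype.val ha)
  set f : stabilizer H y →* MulAut A := (MulAut.conjNormal : H →* MulAut A).comp (stabilizer H y).subtype
  have hinj : Function.Injective f := by
    rw [← MonoidHom.ker_eq_bot_iff, eq_bot_iff]
    intro h hh
    exact Subgroup.mem_bot.2 (Subtype.ext (hcen h h.2 fun a => congrArg Subtype.val (DFunLike.congr_fun hh a)))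
  have : IsCyclic (MulAut A) := by
    have : Fact (Nat.card A).Prime := ⟨hA ▸ hp⟩
    exact isCyclic_of_surjective (IsCyclic.mulAutMulEquiv A).symm.toMonoidHom (IsCyclic.mulAutMulEquiv A).symm.surjective
  refine ⟨isCyclic_of_injective f hinj, ?_⟩
  have h := Subgroup.card_dvd_of_injective f hinj
  rwa [IsCyclic.card_mulAut, hA, Nat.totient_prime hp] at h

/-- In a transitive group of even permutations of odd prime degree `p` the Sylow normaliser is a proper part of the
affine group of order `p (p - 1)`. -/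
theorem normalizer_dvd_of_even {G X : Type*} [Group G] [Finite G] [MulAction G X] [FaithfulSMul G X] [Fintype X]
    [DecidableEq X] {p : ℕ} [Fact p.Prime] (hX : Fintype.card X = p) (hp2 : 3 ≤ p) [IsPretransitive G X]
    (heven : ∀ g : G, Equiv.Perm.sign (MulAction.toPerm g : Equiv.Perm X) = 1) (P : Sylow p G) :
    Nat.card (P : Subgroup G) = p ∧ Nat.card (normalizer ((P : Subgroup G) : Set G)) ∣ p * (p - 1) ∧
      Nat.card (normalizer ((P : Subgroup G) : Set G)) ≠ p * (p - 1) := by
  classical
  have hp : p.Prime := Fact.out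
  have hXn : Nat.card X = p := by rw [Nat.card_eq_fintype_card, hX]
  obtain ⟨y⟩ : Nonempty X := Fintype.card_pos_iff.1 (by omega)
  have hpG : p ∣ Nat.card G := by
    have h := (stabilizer G y).index_mul_card
    rw [index_stabilizer_of_transitive G y, hXn] at h
    exact ⟨_, h.symm⟩
  have hG2 : ¬ p ^ 2 ∣ Nat.card G := by
    intro h
    have h1 : Nat.card G ∣ Nat.card (Equiv.Perm X) :=
      Subgroup.card_dvd_of_injective (MulAction.toPermHom G X) MulAction.toPerm_injective
    have h2 := h.trans h1
    rw [Nat.card_perm, hXn, ← Nat.mul_factorial_pred hp.ne_zero, pow_two] at h2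
    have := hp.dvd_factorial.1 (Nat.dvd_of_mul_dvd_mul_left hp.pos h2)
    omega
  have hP : Nat.card (P : Subgroup G) = p := by
    obtain ⟨n, hn⟩ := IsPGroup.iff_card.1 P.isPGroup'
    have h1 := P.dvd_card_of_dvd_card hpG
    have h2 := (P : Subgroup G).card_subgroup_dvd_card
    rw [hn] at h1 h2 ⊢
    rcases n with _ | _ | n
    · exact absurd h1 (by simp [hp.ne_one])
    · exact pow_one p
    · exact absurd ((pow_dvd_pow p (by omega)).trans h2) hG2
  refine ⟨hP, ?_⟩
  set N := normalizer ((P : Subgroup G) : Set G)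
  set A := (P : Subgroup G).subgroupOf N
  have hA : Nat.card A = p := (Nat.card_congr (Subgroup.subgroupOfEquivOfLe Subgroup.le_normalizer).toEquiv).trans hP
  have : FaithfulSMul N X := ⟨fun h => Subtype.ext (FaithfulSMul.eq_of_smul_eq_smul h)⟩
  have : IsPretransitive N X := by
    have : IsPreprimitive G X := IsPreprimitive.of_prime_card (by rw [hXn]; exact hp)
    obtain ⟨a, ha, ha1⟩ : ∃ a ∈ (P : Subgroup G), a ≠ 1 :=
      (P : Subgroup G).bot_or_exists_ne_one.resolve_left fun h => hp.one_lt.ne' (by rw [← hP, h, Subgroup.card_bot])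
    obtain ⟨z, hz⟩ : ∃ z : X, a • z ≠ z := by
      by_contra h; push Not at h
      exact ha1 (FaithfulSMul.eq_of_smul_eq_smul (α := X) fun z => by rw [h z, one_smul])
    obtain ⟨n, hn⟩ := P.isPGroup'.card_orbit z
    have hle : Nat.card (orbit (P : Subgroup G) z) ≤ p := by
      exact (Nat.card_le_card_of_injective Subtype.val Subtype.val_injective).trans hXn.le
    have hn0 : n ≠ 0 := fun h0 => hz (by
      rw [h0, pow_zero, Nat.card_coe_set_eq, Set.ncard_eq_one] at hn
      obtain ⟨w, hw⟩ := hn
      have h1 : z = w := by have := mem_orbit_self (M := (P : Subgroup G)) z; rwa [hw] at this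
      have h2 : a • z ∈ orbit (P : Subgroup G) z := ⟨⟨a, ha⟩, rfl⟩
      rw [hw, ← h1] at h2
      exact h2)
    have huniv : orbit (P : Subgroup G) z = Set.univ := by
      refine Set.eq_of_subset_of_ncard_le (Set.subset_univ _) ?_ (Set.toFinite _)
      rw [Set.ncard_univ, hXn, ← Nat.card_coe_set_eq, hn]
      exact Nat.le_self_pow hn0 p
    refine ⟨fun u v => ?_⟩
    obtain ⟨g, hg⟩ := (huniv ▸ Set.mem_univ u : u ∈ orbit (P : Subgroup G) z)
    obtain ⟨k, hk⟩ := (huniv ▸ Set.mem_univ v : v ∈ orbit (P : Subgroup G) z)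
    refine ⟨⟨(k * g⁻¹ : (P : Subgroup G)), Subgroup.le_normalizer (k * g⁻¹).2⟩, ?_⟩
    show ((k : G) * (g : G)⁻¹) • u = v
    rw [← hg, mul_smul]
    show (k : G) • (g : G)⁻¹ • (g : G) • z = v
    rw [inv_smul_smul]
    exact hk
  obtain ⟨hfree, hcyc, hdvd⟩ := of_normal hXn A hA y
  have hNc : Nat.card N = p * Nat.card (stabilizer N y) := by
    rw [← (stabilizer N y).index_mul_card, index_stabilizer_of_transitive N y, hXn]
  rw [hNc]
  refine ⟨Nat.mul_dvd_mul_left p hdvd, fun hcon => ?_⟩
  have hc := Nat.eq_of_mul_eq_mul_left hp.pos hcon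
  set d := Nat.card (stabilizer N y) with hd
  -- a generator is a cycle of even length
  obtain ⟨g, hg⟩ := hcyc.exists_generator
  set σ : Equiv.Perm X := MulAction.toPerm ((g : N) : G) with hσ
  have hpow : ∀ i : ℕ, ∀ z, (σ ^ i) z = ((g ^ i : stabilizer N y) : N) • z := by
    intro i z
    induction i with
    | zero => simp
    | succ i ih =>
      rw [pow_succ', Equiv.Perm.mul_apply, ih, pow_succ', Subgroup.coe_mul, mul_smul]
      rfl
  have hg1 : g ≠ 1 := by
    intro e
    have hall : ∀ x : stabilizer N y, x = 1 := fun x => by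
      obtain ⟨i, rfl⟩ := Subgroup.mem_zpowers_iff.1 (hg x); simp [e]
    have : d = 1 := by rw [hd, Nat.card_eq_one_iff_unique]; exact ⟨⟨fun a b => by rw [hall a, hall b]⟩, ⟨1⟩⟩
    omega
  have hmov : ∀ z, z ≠ y → σ z ≠ z := fun z hz e =>
    hg1 (Subtype.ext (hfree (g : N) g.2 z hz e))
  have hsupp : σ.support = Finset.univ.erase y := by
    ext z
    simp only [Equiv.Perm.mem_support, Finset.mem_erase, Finset.mem_univ, and_true]
    exact ⟨fun h e => h (e ▸ g.2), hmov z⟩
  have hsc : σ.support.card = d := by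
    rw [hsupp, Finset.card_erase_of_mem (Finset.mem_univ _), Finset.card_univ, hX]
    omega
  obtain ⟨z0, hz0⟩ := Fintype.exists_ne_of_one_lt_card (by rw [hX]; omega) y
  have hcy : σ.IsCycle := by
    refine ⟨z0, hmov z0 hz0, fun w hw => ?_⟩
    have hwy : w ≠ y := fun e => hw (e ▸ g.2)
    let F : stabilizer N y → X := fun x => (x : N) • z0
    have hFi : Function.Injective F := fun a b e => by
      have h1 : ((a⁻¹ * b : stabilizer N y) : N) • z0 = z0 := by
        rw [Subgroup.coe_mul, Subgroup.coe_inv, mul_smul, inv_smul_eq_iff]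
        exact e.symm
      exact inv_mul_eq_one.1 (Subtype.ext (hfree _ (a⁻¹ * b).2 z0 hz0 h1))
    have himg : Set.range F = ({y} : Set X)ᶜ := by
      refine Set.eq_of_subset_of_ncard_le ?_ ?_ (Set.toFinite _)
      · rintro _ ⟨x, rfl⟩ (h : (x : N) • z0 = y)
        exact hz0 (MulAction.injective (x : N) (h.trans x.2.symm))
      · rw [Set.ncard_compl, Set.ncard_singleton, Set.ncard_range_of_injective hFi, hXn]
        omega
    obtain ⟨x, hx⟩ := (himg.symm ▸ (show w ∈ ({y} : Set X)ᶜ from hwy) : w ∈ Set.range F)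
    obtain ⟨i, hi⟩ := (mem_powers_iff_mem_zpowers).2 (hg x)
    refine ⟨(i : ℤ), ?_⟩
    rw [zpow_natCast, hpow]
    simp only at hi
    rw [hi]
    exact hx
  have h := heven ((g : N) : G)
  rw [← hσ, hcy.sign, hsc] at h
  have : Even d := by rw [hc]; exact hp.even_sub_one (by omega)
  rw [this.neg_one_pow] at h
  exact absurd h (by decide)

end CfsgLib.Recog.NeumannTwin
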