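import Mathlib

/-!
Owner: helper29. Passage from a faithful action to a permutation group, and the group of degree `p` with half of the
affine normaliser is not the symmetric group.
-/

set_option autoImplicit false

namespace CfsgLib.Recog.NeumannTwin

open MulAction Subgroup

theorem transfer {G Ω : Type*} [Group G] [Finite G] [MulAction G Ω] [FaithfulSMul G Ω] [Finite Ω]
    {p : ℕ} [Fact p.Prime] (htrans : IsPretransitive G Ω) (hins : ¬ Group.IsSolvable G) (P : Sylow p G) :
    ∃ (H : Subgroup (Equiv.Perm Ω)) (PH : Sylow p H), Nonempty (G ≃* H) ∧ IsPretransitive H Ω ∧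
      ¬ Group.IsSolvable H ∧
      Nat.card (normalizer ((PH : Subgroup H) : Set H)) = Nat.card (normalizer ((P : Subgroup G) : Set G)) ∧
      ∀ n, IsMultiplyPretransitive H Ω n → IsMultiplyPretransitive G Ω n := by
  let H : Subgroup (Equiv.Perm Ω) := (MulAction.toPermHom G Ω).range
  let φ : G ≃* H := MonoidHom.ofInjective (f := MulAction.toPermHom G Ω) MulAction.toPerm_injective
  have hφ : Function.Surjective (φ.toMonoidHom : G → H) := φ.surjective
  refine ⟨H, P.mapSurjective hφ, ⟨φ⟩, ⟨fun x y => ?_⟩, fun h => hins ?_, ?_, fun n hn => ⟨fun u v => ?_⟩⟩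
  · obtain ⟨g, hg⟩ := htrans.exists_smul_eq x y
    exact ⟨φ g, hg⟩
  · have := h
    exact Group.isSolvable_of_isSolvable_injective (f := φ.toMonoidHom) φ.injective
  · rw [show (P.mapSurjective hφ : Subgroup H) = (P : Subgroup G).map φ.toMonoidHom from
        Sylow.coe_mapSurjective hφ P, ← Subgroup.map_equiv_normalizer_eq (P : Subgroup G) φ]
    exact Subgroup.card_map_of_injective φ.injective
  · obtain ⟨h, hh⟩ := hn.exists_smul_eq u v
    obtain ⟨g, rfl⟩ := φ.surjective h
    exact ⟨g, Function.Embedding.ext fun i => DFunLike.congr_fun hh i⟩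

theorem not_factorial {G : Type*} [Group G] [Finite G] {p : ℕ} [Fact p.Prime] (h3 : 3 ≤ p) (P : Sylow p G)
    (hN : 2 * Nat.card (normalizer ((P : Subgroup G) : Set G)) = p * (p - 1))
    (hGc : Nat.card G = p.factorial) : False := by
  have hp : p.Prime := Fact.out
  have hPc : Nat.card (Sylow p G) * Nat.card (normalizer ((P : Subgroup G) : Set G)) = Nat.card G := by
    rw [Sylow.card_eq_index_normalizer P]
    exact Subgroup.index_mul_card _
  have hmod := card_sylow_modEq_one p G
  have hfac : p.factorial = p * (p - 1) * (p - 2).factorial := by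
    obtain ⟨q, rfl⟩ : ∃ q, p = q + 2 := ⟨p - 2, by omega⟩
    rw [show q + 2 - 2 = q from rfl, show q + 2 - 1 = q + 1 from rfl, Nat.factorial_succ (q + 1), Nat.factorial_succ q]
    ring
  have hn : Nat.card (Sylow p G) = 2 * (p - 2).factorial := by
    refine Nat.eq_of_mul_eq_mul_right (show 0 < p * (p - 1) from Nat.mul_pos hp.pos (by omega)) ?_
    rw [← hN, ← mul_assoc, mul_comm (Nat.card (Sylow p G)) 2, mul_assoc 2 (Nat.card (Sylow p G)), hPc, hGc, hfac, hN]
    ring
  rw [hn] at hmod
  have hw := ZMod.wilsons_lemma p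
  rw [← ZMod.natCast_eq_natCast_iff] at hmod
  push_cast at hmod
  have hf : (((p - 1).factorial : ℕ) : ZMod p) = ((p - 1 : ℕ) : ZMod p) * (((p - 2).factorial : ℕ) : ZMod p) := by
    rw [← Nat.cast_mul]
    congr 1
    rw [show p - 1 = (p - 2) + 1 by omega, Nat.factorial_succ]
  have hm1 : ((p - 1 : ℕ) : ZMod p) = -1 := by
    rw [Nat.cast_sub hp.one_le, ZMod.natCast_self]; simp
  rw [hf, hm1, neg_one_mul, neg_inj] at hw
  rw [hw, mul_one] at hmod
  exact one_ne_zero (α := ZMod p) (by linear_combination hmod)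

end CfsgLib.Recog.NeumannTwin
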