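import Cfsg.Agent.Lib.Recog.NeumannTwin.Basic
import Cfsg.Agent.Lib.Recog.NeumannTwin.Transfer
import Cfsg.Agent.Lib.Recog.NeumannTwin.PrimeAffine
import Cfsg.Agent.Lib.Recog.NeumannTwin.PSLTwoElem
import Cfsg.Agent.Lib.TwoGroups.Recognition
import Cfsg.Agent.Lib.Classical.SmallIso
import Cfsg.Agent.S0676
import Cfsg.Agent.S3572
import Cfsg.Agent.S3611
import Cfsg.Agent.S3612

/-!
Owner: helper29. Neumann: a group of even permutations of `p + 1` points properly containing a doubly transitive
`PSL(2, p)` is four-fold transitive.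
-/

set_option autoImplicit false

namespace CfsgLib.Recog.NeumannTwin

open MulAction Subgroup

variable {X Ω : Type*} [Group X] [Finite X] [MulAction X Ω] [FaithfulSMul X Ω] [Fintype Ω] [DecidableEq Ω]

theorem sign_restrict {X Ω : Type*} [Group X] [MulAction X Ω] [Fintype Ω] [DecidableEq Ω] (S : SubMulAction X Ω)
    [Fintype S] [DecidableEq S] (x : X) (hfix : ∀ z, z ∉ S → x • z = z) :
    Equiv.Perm.sign (MulAction.toPerm x : Equiv.Perm S) = Equiv.Perm.sign (MulAction.toPerm x : Equiv.Perm Ω) := by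
  classical
  have h1 : ∀ z, (MulAction.toPerm x : Equiv.Perm Ω) z ∈ S ↔ z ∈ S := fun z => ⟨fun h => by
    have := S.smul_mem x⁻¹ h
    rwa [MulAction.toPerm_apply, inv_smul_smul] at this, fun h => S.smul_mem x h⟩
  rw [← Equiv.Perm.sign_subtypePerm (MulAction.toPerm x : Equiv.Perm Ω) h1 fun z hz => by
    by_contra h
    exact hz (hfix z h)]
  congr!

set_option maxHeartbeats 4000000 in
theorem four_transitive (p : ℕ) (hp : p.Prime) (hp7 : 7 < p) (hΩ : Fintype.card Ω = p + 1)
    (heven : ∀ x : X, Equiv.Perm.sign (MulAction.toPerm x : Equiv.Perm Ω) = 1) (L : Subgroup X)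
    (e : L ≃* Matrix.ProjectiveSpecialLinearGroup (Fin 2) (ZMod p)) (hLt : IsMultiplyPretransitive L Ω 2)
    (hLX : L ≠ ⊤) : IsMultiplyPretransitive X Ω 4 := by
  classical
  have := Fact.mk hp
  have hΩn : Nat.card Ω = p + 1 := by rw [Nat.card_eq_fintype_card, hΩ]
  have h2X : IsMultiplyPretransitive X Ω 2 := ⟨fun u v => by
    obtain ⟨g, hg⟩ := hLt.exists_smul_eq u v
    exact ⟨(g : X), hg⟩⟩
  have h1L : IsPretransitive L Ω := isPretransitive_of_is_two_pretransitive
  have h1X : IsPretransitive X Ω := isPretransitive_of_is_two_pretransitive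
  obtain ⟨a⟩ : Nonempty Ω := Fintype.card_pos_iff.1 (by omega)
  set m := (p - 1) / 2 with hm
  obtain ⟨po, hpo⟩ := hp.odd_of_ne_two (by omega)
  have hp1 : p - 1 = 2 * m := by omega
  -- orders
  have hLc : Nat.card L = (p + 1) * (p * m) := by
    rw [Nat.card_congr e.toEquiv]
    have h := CfsgLib.Classical.Two.card_PSL_two (F := ZMod p)
    rw [ZMod.card, Nat.gcd_eq_left (by omega : 2 ∣ p - 1), show p * (p ^ 2 - 1) = 2 * ((p + 1) * (p * m)) by
      rw [show p ^ 2 - 1 = (p + 1) * (p - 1) from Nat.sq_sub_sq p 1, hp1]; ring] at h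
    exact Nat.eq_of_mul_eq_mul_left two_pos h
  have hLa : ∀ z : Ω, Nat.card (stabilizer L z) = p * m := fun z => by
    have h := (stabilizer L z).index_mul_card
    rw [index_stabilizer_of_transitive L z, hΩn, hLc] at h
    exact Nat.eq_of_mul_eq_mul_left (by omega) h
  -- the point stabiliser
  set Y := SubMulAction.ofStabilizer X a with hY
  have hYc : Fintype.card Y = p := by
    rw [Fintype.card_of_subtype ((Finset.univ : Finset Ω).erase a) fun z => by
      simp [hY, SubMulAction.mem_ofStabilizer_iff], Finset.card_erase_of_mem (Finset.mem_univ _), Finset.card_univ, hΩ]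
    omega
  have hYn : Nat.card Y = p := by rw [Nat.card_eq_fintype_card, hYc]
  have : FaithfulSMul (stabilizer X a) Y := ⟨fun {g h} H => Subtype.ext (FaithfulSMul.eq_of_smul_eq_smul fun z => by
    by_cases hz : z = a
    · subst hz; exact g.2.trans h.2.symm
    · exact congrArg Subtype.val (H ⟨z, hz⟩))⟩
  have h2X' := h2X
  rw [is_two_pretransitive_iff] at h2X'
  have hYt : IsPretransitive (stabilizer X a) Y := ⟨fun x y => by
    obtain ⟨g, hg, hg'⟩ := h2X' (a := a) (b := (x : Ω)) (c := a) (d := (y : Ω))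
      (fun h => x.2 (Set.mem_singleton_iff.2 h.symm)) (fun h => y.2 (Set.mem_singleton_iff.2 h.symm))
    exact ⟨⟨g, hg⟩, Subtype.ext hg'⟩⟩
  have hYeven : ∀ g : stabilizer X a, Equiv.Perm.sign (MulAction.toPerm g : Equiv.Perm Y) = 1 := fun g => by
    rw [sign_restrict Y g fun z hz => ?_]
    · exact heven g
    · have : z = a := by
        by_contra h
        exact hz h
      rw [this]; exact g.2
  -- the stabiliser in `L`
  let ι : stabilizer L a →* stabilizer X a :=
    { toFun := fun g => ⟨((g : L) : X), g.2⟩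
      map_one' := rfl
      map_mul' := fun _ _ => rfl }
  have hιi : Function.Injective ι := fun g h H => Subtype.ext (Subtype.ext (congrArg Subtype.val H :))
  set La := ι.range with hLaR
  have hLaRc : Nat.card La = p * m := by
    rw [hLaR, ← Nat.card_congr (MonoidHom.ofInjective hιi).toEquiv, hLa]
  have hm0 : 0 < m := by omega
  have hpm : ¬ p ∣ m := fun h => by have := Nat.le_of_dvd hm0 h; omega
  obtain ⟨Q⟩ := (Sylow.nonempty : Nonempty (Sylow p La))
  have hQc : Nat.card (Q : Subgroup La) = p := by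
    rw [Q.card_eq_multiplicity, hLaRc, Nat.factorization_mul hp.ne_zero hm0.ne', Finsupp.add_apply,
      hp.factorization_self, Nat.factorization_eq_zero_of_not_dvd hpm, pow_one]
  have hQn : (Q : Subgroup La).Normal := by
    have h3 : (Q : Subgroup La).index = m := by
      have h4 := (Q : Subgroup La).index_mul_card
      rw [hQc, hLaRc, mul_comm p] at h4
      exact Nat.eq_of_mul_eq_mul_right hp.pos h4
    have h2 := h3 ▸ Q.card_dvd_index
    have h1 : Nat.card (Sylow p La) = 1 := by
      have h5 := card_sylow_modEq_one p La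
      have h6 : Nat.card (Sylow p La) < p := lt_of_le_of_lt (Nat.le_of_dvd hm0 h2) (by omega)
      rwa [Nat.ModEq, Nat.mod_eq_of_lt h6, Nat.mod_eq_of_lt hp.one_lt] at h5
    have : Subsingleton (Sylow p La) := (Nat.card_eq_one_iff_unique.1 h1).1
    exact Sylow.normal_of_subsingleton Q
  set P0 := (Q : Subgroup La).map La.subtype with hP0
  have hP0c : Nat.card P0 = p := by
    rw [hP0, ← Nat.card_congr (Subgroup.equivMapOfInjective _ _ La.subtype_injective).toEquiv, hQc]
  obtain ⟨P, hP⟩ := (IsPGroup.of_card (p := p) (G := P0) (n := 1) (by rw [hP0c, pow_one])).exists_le_sylow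
  obtain ⟨hPc, hNd, hNne⟩ := normalizer_dvd_of_even hYc (by omega) hYeven P
  have hPe : P0 = (P : Subgroup (stabilizer X a)) := Subgroup.eq_of_le_of_card_ge hP (by rw [hP0c, hPc])
  have hLN : La ≤ normalizer ((P : Subgroup (stabilizer X a)) : Set (stabilizer X a)) := by
    rw [← hPe]
    intro g hg
    refine Subgroup.mem_normalizer_iff.2 fun h => ⟨?_, ?_⟩
    · rintro ⟨x, hx, rfl⟩
      exact ⟨⟨g, hg⟩ * x * ⟨g, hg⟩⁻¹, hQn.conj_mem x hx ⟨g, hg⟩, rfl⟩
    · rintro ⟨x, hx, hxe⟩
      refine ⟨⟨g, hg⟩⁻¹ * x * ⟨g, hg⟩, by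
        have := hQn.conj_mem x hx (⟨g, hg⟩ : La)⁻¹
        rwa [inv_inv] at this, ?_⟩
      simp only [map_mul, map_inv]
      rw [hxe]
      show g⁻¹ * (g * h * g⁻¹) * g = h
      group
  have hN : 2 * Nat.card (normalizer ((P : Subgroup (stabilizer X a)) : Set (stabilizer X a))) = p * (p - 1) := by
    obtain ⟨c, hc⟩ := (Subgroup.card_dvd_of_le hLN)
    rw [hLaRc] at hc
    rw [hc, hp1] at hNd hNne
    rw [hc, hp1]
    have hc2 : c ∣ 2 := by
      refine Nat.dvd_of_mul_dvd_mul_left (show 0 < p * m from Nat.mul_pos hp.pos hm0) ?_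
      rwa [show p * m * 2 = p * (2 * m) by ring]
    rcases (Nat.dvd_prime Nat.prime_two).1 hc2 with rfl | rfl
    · ring
    · exact absurd (by ring) hNne
  -- insolubility
  have hins : ¬ Group.IsSolvable (stabilizer X a) := by
    intro hs
    let φ := (MulAction.toPermHom (stabilizer X a) Y).rangeRestrict
    let R := (MulAction.toPermHom (stabilizer X a) Y).range
    have : IsPretransitive R Y := ⟨fun x y => by
      obtain ⟨g, hg⟩ := hYt.exists_smul_eq x y
      exact ⟨φ g, hg⟩⟩
    have : Group.IsSolvable R := Group.isSolvable_of_surjective (f := φ) (MonoidHom.rangeRestrict_surjective _)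
    obtain ⟨y⟩ : Nonempty Y := Fintype.card_pos_iff.1 (by omega)
    have hd := stabilizer_dvd R hp hYn y
    have hR : Nat.card R = Nat.card (stabilizer X a) :=
      (Nat.card_congr (MonoidHom.ofInjective (f := MulAction.toPermHom (stabilizer X a) Y)
        MulAction.toPerm_injective).toEquiv).symm
    have hRc := (stabilizer R y).index_mul_card
    rw [index_stabilizer_of_transitive R y, hYn, hR] at hRc
    have hXd : Nat.card (stabilizer X a) ∣ p * (p - 1) := hRc ▸ Nat.mul_dvd_mul_left p hd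
    have hPidx : (normalizer ((P : Subgroup (stabilizer X a)) : Set (stabilizer X a))).index = 1 := by
      have h1 := Subgroup.index_mul_card (normalizer ((P : Subgroup (stabilizer X a)) : Set (stabilizer X a)))
      have hle := Nat.le_of_dvd (Nat.mul_pos hp.pos (by omega)) hXd
      rw [← h1, ← hN] at hle
      have h2 := Nat.le_of_mul_le_mul_right hle Nat.card_pos
      have h3 : (normalizer ((P : Subgroup (stabilizer X a)) : Set (stabilizer X a))).index ≡ 1 [MOD p] := by
        have h := card_sylow_modEq_one p (stabilizer X a)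
        rwa [Sylow.card_eq_index_normalizer P] at h
      rw [Nat.ModEq, Nat.mod_eq_of_lt (by omega : _ < p),
        Nat.mod_eq_of_lt hp.one_lt] at h3
      exact h3
    have hXa : Nat.card (stabilizer X a) = p * m := by
      have h1 := Subgroup.index_mul_card (normalizer ((P : Subgroup (stabilizer X a)) : Set (stabilizer X a)))
      rw [hPidx, one_mul] at h1
      rw [← h1]
      rw [hp1, show p * (2 * m) = 2 * (p * m) by ring] at hN
      exact Nat.eq_of_mul_eq_mul_left two_pos hN
    refine hLX (Subgroup.eq_top_of_card_eq _ ?_)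
    have h := (stabilizer X a).index_mul_card
    rw [index_stabilizer_of_transitive X a, hΩn, hXa] at h
    rw [hLc, h]
  refine (SubMulAction.ofStabilizer.isMultiplyPretransitive (G := X) (a := a) (n := 3)).2 ?_
  obtain ⟨H, PH, -, hHt, hHs, hHN, hback⟩ := transfer hYt hins P
  by_cases hp3 : p % 4 = 3
  swap
  · refine hback 3 (Cfsg.Agent.S0676.result hYc H hHs PH ?_)
    rw [hHN]
    have he : Even m := by rw [Nat.even_iff]; omega
    have hN' : Nat.card (normalizer ((P : Subgroup (stabilizer X a)) : Set (stabilizer X a))) = p * m := by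
      rw [hp1, show p * (2 * m) = 2 * (p * m) by ring] at hN
      exact Nat.eq_of_mul_eq_mul_left two_pos hN
    rw [hN']
    exact he.mul_left p
  refine (Cfsg.Agent.S3611.result p hp hYn hYt hins P hN hp3).resolve_right fun h4 => ?_
  -- a second point
  obtain ⟨b, hba⟩ : ∃ b : Ω, b ≠ a := Fintype.exists_ne_of_one_lt_card (by omega) a
  let b' : Y := ⟨b, fun h => hba (Set.mem_singleton_iff.1 h)⟩
  have hprimY := Cfsg.Agent.S3612.result p hp hYn hYt hins P hN hp7 b'
  -- the setwise stabiliser of the two points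
  let W : Subgroup X :=
    { carrier := {g | (g • a = a ∧ g • b = b) ∨ (g • a = b ∧ g • b = a)}
      mul_mem' := by
        rintro g h (⟨g1, g2⟩ | ⟨g1, g2⟩) (⟨h1, h2⟩ | ⟨h1, h2⟩) <;> simp [mul_smul, h1, h2, g1, g2]
      one_mem' := Or.inl ⟨one_smul _ _, one_smul _ _⟩
      inv_mem' := by
        rintro g (⟨g1, g2⟩ | ⟨g1, g2⟩)
        · exact Or.inl ⟨inv_smul_eq_iff.2 g1.symm, inv_smul_eq_iff.2 g2.symm⟩
        · exact Or.inr ⟨inv_smul_eq_iff.2 g2.symm, inv_smul_eq_iff.2 g1.symm⟩ }
  have hWz : ∀ (g : W) (z : Ω), z ≠ a → z ≠ b → (g : X) • z ≠ a ∧ (g : X) • z ≠ b := by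
    intro g z hza hzb
    rcases g.2 with ⟨g1, g2⟩ | ⟨g1, g2⟩
    · exact ⟨fun h => hza (MulAction.injective (g : X) (h.trans g1.symm)),
        fun h => hzb (MulAction.injective (g : X) (h.trans g2.symm))⟩
    · exact ⟨fun h => hzb (MulAction.injective (g : X) (h.trans g2.symm)),
        fun h => hza (MulAction.injective (g : X) (h.trans g1.symm))⟩
  let Z : SubMulAction W Ω :=
    { carrier := {z | z ≠ a ∧ z ≠ b}
      smul_mem' := fun g z hz => hWz g z hz.1 hz.2 }
  have hWprim : IsPreprimitive W Z := by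
    let φ : stabilizer (stabilizer X a) b' → W := fun g =>
      ⟨((g : stabilizer X a) : X), Or.inl ⟨(g : stabilizer X a).2, congrArg Subtype.val g.2⟩⟩
    let f : SubMulAction.ofStabilizer (stabilizer X a) b' →ₑ[φ] Z :=
      { toFun := fun z => ⟨((z : Y) : Ω), fun h => (z : Y).2 (Set.mem_singleton_iff.2 h),
          fun h => z.2 (Set.mem_singleton_iff.2 (Subtype.ext h))⟩
        map_smul' := fun _ _ => rfl }
    exact IsPreprimitive.of_surjective (f := f) fun z =>
      ⟨⟨⟨(z : Ω), fun h => z.2.1 (Set.mem_singleton_iff.1 h)⟩,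
        fun h => z.2.2 (congrArg Subtype.val (Set.mem_singleton_iff.1 h))⟩, Subtype.ext rfl⟩
  have hZc : Nat.card Z = p - 1 := by
    rw [Nat.card_eq_fintype_card, Fintype.card_of_subtype (((Finset.univ : Finset Ω).erase a).erase b) fun z => by
      show _ ↔ (z ≠ a ∧ z ≠ b)
      simp [and_comm], Finset.card_erase_of_mem (by simp [hba]), Finset.card_erase_of_mem (Finset.mem_univ _),
      Finset.card_univ, hΩ]
    omega
  -- the Frobenius group of a point
  have hmodd : Odd m := by rw [Nat.odd_iff]; omega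
  have hfrob : ∀ z : Ω, ∀ g : L, g • z = z → ∀ w, w ≠ z → g • w = w → ∀ v, v ≠ z → v ≠ w → g • v = v → g = 1 := by
    intro z g hgz w hwz hgw v hvz hvw hgv
    -- a normal subgroup of order `p`
    have hc := hLa z
    obtain ⟨Q'⟩ := (Sylow.nonempty : Nonempty (Sylow p (stabilizer L z)))
    have hQc' : Nat.card (Q' : Subgroup (stabilizer L z)) = p := by
      rw [Q'.card_eq_multiplicity, hc, Nat.factorization_mul hp.ne_zero hm0.ne', Finsupp.add_apply,
        hp.factorization_self, Nat.factorization_eq_zero_of_not_dvd hpm, pow_one]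
    have : (Q' : Subgroup (stabilizer L z)).Normal := by
      have h3 : (Q' : Subgroup (stabilizer L z)).index = m := by
        have h4 := (Q' : Subgroup (stabilizer L z)).index_mul_card
        rw [hQc', hc, mul_comm p] at h4
        exact Nat.eq_of_mul_eq_mul_right hp.pos h4
      have h2 := h3 ▸ Q'.card_dvd_index
      have h1 : Nat.card (Sylow p (stabilizer L z)) = 1 := by
        have h5 := card_sylow_modEq_one p (stabilizer L z)
        have h6 : Nat.card (Sylow p (stabilizer L z)) < p := lt_of_le_of_lt (Nat.le_of_dvd hm0 h2) (by omega)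
        rwa [Nat.ModEq, Nat.mod_eq_of_lt h6, Nat.mod_eq_of_lt hp.one_lt] at h5
      have : Subsingleton (Sylow p (stabilizer L z)) := (Nat.card_eq_one_iff_unique.1 h1).1
      exact Sylow.normal_of_subsingleton Q'
    set S := SubMulAction.ofStabilizer L z
    have hSc : Nat.card S = p := by
      rw [Nat.card_eq_fintype_card, Fintype.card_of_subtype ((Finset.univ : Finset Ω).erase z) fun y => by
        simp [S, SubMulAction.mem_ofStabilizer_iff], Finset.card_erase_of_mem (Finset.mem_univ _), Finset.card_univ, hΩ]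
      omega
    have : FaithfulSMul (stabilizer L z) S := ⟨fun {g h} H => Subtype.ext (Subtype.ext
      (FaithfulSMul.eq_of_smul_eq_smul (α := Ω) fun y => by
        by_cases hy : y = z
        · subst hy; exact g.2.trans h.2.symm
        · exact congrArg Subtype.val (H ⟨y, hy⟩)))⟩
    have hLt' := hLt
    rw [is_two_pretransitive_iff] at hLt'
    have : IsPretransitive (stabilizer L z) S := ⟨fun x y => by
      obtain ⟨g, hg, hg'⟩ := hLt' (a := z) (b := (x : Ω)) (c := z) (d := (y : Ω))
        (fun h => x.2 (Set.mem_singleton_iff.2 h.symm)) (fun h => y.2 (Set.mem_singleton_iff.2 h.symm))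
      exact ⟨⟨g, hg⟩, Subtype.ext hg'⟩⟩
    have h := (of_normal hSc (Q' : Subgroup (stabilizer L z)) hQc'
      (⟨w, fun h => hwz (Set.mem_singleton_iff.1 h)⟩ : S)).1 ⟨g, hgz⟩ (Subtype.ext hgw)
      ⟨v, fun h => hvz (Set.mem_singleton_iff.1 h)⟩ (fun h => hvw (congrArg Subtype.val h)) (Subtype.ext hgv)
    exact congrArg Subtype.val h
  -- the cyclic two point stabiliser in `L`
  set C := stabilizer L a ⊓ stabilizer L b with hC
  have hLt2 := hLt
  rw [is_two_pretransitive_iff] at hLt2
  set Sa := SubMulAction.ofStabilizer L a with hSa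
  let bS : Sa := ⟨b, fun h => hba (Set.mem_singleton_iff.1 h)⟩
  have hSac : Nat.card Sa = p := by
    rw [Nat.card_eq_fintype_card, Fintype.card_of_subtype ((Finset.univ : Finset Ω).erase a) fun y => by
      simp [hSa, SubMulAction.mem_ofStabilizer_iff], Finset.card_erase_of_mem (Finset.mem_univ _), Finset.card_univ, hΩ]
    omega
  have : IsPretransitive (stabilizer L a) Sa := ⟨fun x y => by
    obtain ⟨g, hg, hg'⟩ := hLt2 (a := a) (b := (x : Ω)) (c := a) (d := (y : Ω))
      (fun h => x.2 (Set.mem_singleton_iff.2 h.symm)) (fun h => y.2 (Set.mem_singleton_iff.2 h.symm))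
    exact ⟨⟨g, hg⟩, Subtype.ext hg'⟩⟩
  have hCc : Nat.card C = m := by
    have h := (stabilizer (stabilizer L a) bS).index_mul_card
    rw [index_stabilizer_of_transitive, hSac, hLa a] at h
    rw [← Nat.eq_of_mul_eq_mul_left hp.pos h]
    exact Nat.card_congr
      { toFun := fun g => ⟨⟨g.1, g.2.1⟩, Subtype.ext g.2.2⟩
        invFun := fun g => ⟨(g : stabilizer L a).1, (g : stabilizer L a).2, congrArg Subtype.val g.2⟩
        left_inv := fun _ => rfl
        right_inv := fun _ => rfl }
  have hCfree : ∀ g ∈ C, ∀ z, z ≠ a → z ≠ b → g • z = z → g = 1 := fun g hg z hza hzb hz =>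
    hfrob a g hg.1 b hba hg.2 z hza hzb hz
  have hCcyc : IsCyclic C := by
    obtain ⟨Q', -⟩ : ∃ Q' : Sylow p (stabilizer L a), True := ⟨default, trivial⟩
    have hQc' : Nat.card (Q' : Subgroup (stabilizer L a)) = p := by
      rw [Q'.card_eq_multiplicity, hLa a, Nat.factorization_mul hp.ne_zero hm0.ne', Finsupp.add_apply,
        hp.factorization_self, Nat.factorization_eq_zero_of_not_dvd hpm, pow_one]
    have : (Q' : Subgroup (stabilizer L a)).Normal := by
      have h3 : (Q' : Subgroup (stabilizer L a)).index = m := by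
        have h4 := (Q' : Subgroup (stabilizer L a)).index_mul_card
        rw [hQc', hLa a, mul_comm p] at h4
        exact Nat.eq_of_mul_eq_mul_right hp.pos h4
      have h2 := h3 ▸ Q'.card_dvd_index
      have h1 : Nat.card (Sylow p (stabilizer L a)) = 1 := by
        have h5 := card_sylow_modEq_one p (stabilizer L a)
        have h6 : Nat.card (Sylow p (stabilizer L a)) < p := lt_of_le_of_lt (Nat.le_of_dvd hm0 h2) (by omega)
        rwa [Nat.ModEq, Nat.mod_eq_of_lt h6, Nat.mod_eq_of_lt hp.one_lt] at h5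
      have : Subsingleton (Sylow p (stabilizer L a)) := (Nat.card_eq_one_iff_unique.1 h1).1
      exact Sylow.normal_of_subsingleton Q'
    have : FaithfulSMul (stabilizer L a) Sa := ⟨fun {g h} H => Subtype.ext (Subtype.ext
      (FaithfulSMul.eq_of_smul_eq_smul (α := Ω) fun y => by
        by_cases hy : y = a
        · subst hy; exact g.2.trans h.2.symm
        · exact congrArg Subtype.val (H ⟨y, hy⟩)))⟩
    have hcy := (of_normal hSac (Q' : Subgroup (stabilizer L a)) hQc' bS).2.1
    exact isCyclic_of_injective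
      ({ toFun := fun g => ⟨⟨g.1, g.2.1⟩, Subtype.ext g.2.2⟩
         map_one' := rfl
         map_mul' := fun _ _ => rfl } : C →* stabilizer (stabilizer L a) bS)
      fun g h H => Subtype.ext (congrArg (fun x : stabilizer (stabilizer L a) bS => ((x : stabilizer L a) : L)) H)
  obtain ⟨c0, hc0⟩ := hCcyc.exists_generator
  have hc0o : orderOf (c0 : L) = m := by rw [orderOf_submonoid, orderOf_eq_card_of_forall_mem_zpowers hc0, hCc]
  have hCz : ∀ g : L, g ∈ C ↔ g ∈ zpowers (c0 : L) := fun g => by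
    refine ⟨fun hg => ?_, fun hg => zpowers_le.2 c0.2 hg⟩
    obtain ⟨i, hi⟩ := Subgroup.mem_zpowers_iff.1 (hc0 ⟨g, hg⟩)
    exact ⟨i, congrArg Subtype.val hi⟩
  -- an involution exchanging the points
  obtain ⟨t, hta, htb, ht2⟩ : ∃ t : L, t • a = b ∧ t • b = a ∧ t * t = 1 := by
    obtain ⟨g, g1, g2⟩ := hLt2 hba.symm hba
    have hg2 : g * g ∈ C := ⟨show (g * g) • a = a by rw [mul_smul, g1, g2], show (g * g) • b = b by rw [mul_smul, g2, g1]⟩
    have hgm : (g * g) ^ m = 1 := by
      rw [← hCc]; exact congrArg Subtype.val (pow_card_eq_one' (x := (⟨g * g, hg2⟩ : C)))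
    obtain ⟨k, hk⟩ := hmodd
    have hgk := pow_mem hg2 k
    refine ⟨g * (g * g) ^ k, by rw [mul_smul, hgk.1, g1], by rw [mul_smul, hgk.2, g2], ?_⟩
    have hcomm : Commute g ((g * g) ^ k) := ((Commute.refl g).mul_right (Commute.refl g)).pow_right k
    calc g * (g * g) ^ k * (g * (g * g) ^ k) = g * g * ((g * g) ^ k * (g * g) ^ k) := by
          rw [mul_assoc, ← mul_assoc ((g * g) ^ k), ← hcomm.eq]; group
      _ = (g * g) ^ (2 * k + 1) := by rw [← pow_add, ← pow_succ', two_mul]
      _ = 1 := by rw [← hk, hgm]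
  have htC : t ∉ C := fun h => hba (hta.symm.trans h.1)
  have hti : t⁻¹ = t := inv_eq_of_mul_eq_one_right ht2
  have htn : ∀ g ∈ C, t * g * t ∈ C := fun g hg =>
    ⟨show (t * g * t) • a = a by rw [mul_smul, mul_smul, hta, show g • b = b from hg.2, htb],
      show (t * g * t) • b = b by rw [mul_smul, mul_smul, htb, show g • a = a from hg.1, hta]⟩
  have hinv : ∀ g ∈ C, t * g * t = g⁻¹ := by
    intro g hg
    have hcom : ∀ x ∈ C, ∀ y ∈ C, x * y = y * x := by
      intro x hx y hy
      obtain ⟨i, rfl⟩ := (hCz x).1 hx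
      obtain ⟨j, rfl⟩ := (hCz y).1 hy
      exact zpow_mul_comm _ _ _
    set y := t * g * t
    have hfix : t * (g * y) * t = g * y := by
      rw [show t * (g * y) * t = (t * g * t) * (t * y * t) by
        rw [show (t * g * t) * (t * y * t) = t * g * (t * t) * y * t by group, ht2, mul_one]; group,
        show t * y * t = g by rw [show t * y * t = t * t * g * (t * t) by simp only [y]; group, ht2, one_mul, mul_one],
        hcom _ (htn g hg) _ hg]
    set w := g * y with hw
    have hwC : w ∈ C := mul_mem hg (htn g hg)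
    have hwt : Commute t w := by
      show t * w = w * t
      calc t * w = t * w * t * t := by rw [mul_assoc (t * w), ht2, mul_one]
        _ = w * t := by rw [hfix]
    have hwd : orderOf w ∣ m := by
      rw [← hCc]
      exact (Subgroup.orderOf_mk w hwC) ▸ orderOf_dvd_natCard _
    have ht1 : t ≠ 1 := fun h => htC (h ▸ one_mem C)
    have ho : orderOf (e (t * w)) = 2 * orderOf w := by
      rw [MulEquiv.orderOf_eq, hwt.orderOf_mul_eq_mul_orderOf_of_coprime (by
          rw [orderOf_eq_prime (by rw [pow_two, ht2]) ht1]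
          exact Nat.Coprime.coprime_dvd_right hwd (Nat.coprime_two_left.2 hmodd)),
        orderOf_eq_prime (by rw [pow_two, ht2]) ht1]
    have h1 := orderOf_eq_one_iff.1 (eq_one_of_orderOf_two_mul hp3 _ ho hwd)
    exact eq_inv_of_mul_eq_one_right h1
  -- the regular dihedral group
  let D : Subgroup W := L.subgroupOf W
  have hmem : ∀ g : L, (g : X) ∈ W → g ∈ C ∨ t * g ∈ C := by
    rintro g (⟨g1, g2⟩ | ⟨g1, g2⟩)
    · exact Or.inl ⟨g1, g2⟩
    · exact Or.inr ⟨show (t * g) • a = a by rw [mul_smul, show g • a = b from g1, htb],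
        show (t * g) • b = b by rw [mul_smul, show g • b = a from g2, hta]⟩
  have hCW : ∀ g ∈ C, ((g : L) : X) ∈ W := fun g hg => Or.inl ⟨hg.1, hg.2⟩
  have htW : (t : X) ∈ W := Or.inr ⟨hta, htb⟩
  let cD : D := ⟨⟨((c0 : L) : X), hCW _ c0.2⟩, (c0 : L).2⟩
  let tD : D := ⟨⟨(t : X), htW⟩, t.2⟩
  let τ : D →* L :=
    { toFun := fun d => ⟨((d : W) : X), d.2⟩
      map_one' := rfl
      map_mul' := fun _ _ => rfl }
  have hτ : Function.Injective τ := fun x y H => Subtype.ext (Subtype.ext (congrArg (Subtype.val : L → X) H))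
  have hDmem : ∀ d : D, τ d ∈ C ∨ t * τ d ∈ C := fun d => hmem (τ d) (d : W).2
  have hcDo : orderOf cD = m := by
    rw [← orderOf_injective τ hτ cD]; exact hc0o
  have hDcard : Nat.card D = 2 * m := by
    let F : C ⊕ C → D := Sum.elim (fun g => ⟨⟨((g : L) : X), hCW _ g.2⟩, (g : L).2⟩)
      (fun g => ⟨⟨((t * g : L) : X), mul_mem htW (hCW _ g.2)⟩, (t * g : L).2⟩)
    have hF : Function.Bijective F := by
      refine ⟨?_, fun d => ?_⟩
      · rintro (g | g) (h | h) H <;> replace H := congrArg τ H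
        · exact congrArg Sum.inl (Subtype.ext H)
        · exfalso
          have H' : (g : L) = t * h := H
          refine htC ?_
          rw [show t = (g : L) * (h : L)⁻¹ by rw [H']; group]
          exact mul_mem g.2 (inv_mem h.2)
        · exfalso
          have H' : t * (g : L) = h := H
          refine htC ?_
          rw [show t = (h : L) * (g : L)⁻¹ by rw [← H']; group]
          exact mul_mem h.2 (inv_mem g.2)
        · exact congrArg Sum.inr (Subtype.ext (mul_left_cancel (H : t * (g : L) = t * h)))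
      · rcases hDmem d with h | h
        · exact ⟨Sum.inl ⟨τ d, h⟩, hτ rfl⟩
        · refine ⟨Sum.inr ⟨t * τ d, h⟩, hτ ?_⟩
          show t * (t * τ d) = τ d
          rw [← mul_assoc, ht2, one_mul]
    rw [← Nat.card_congr (Equiv.ofBijective F hF), Nat.card_sum, hCc, two_mul]
  have : NeZero m := ⟨hm0.ne'⟩
  obtain ⟨eD⟩ : Nonempty (D ≃* DihedralGroup m) := by
    refine CfsgLib.TwoGroups.nonempty_mulEquiv_dihedralGroup hcDo (b := tD) (hτ ?_) (fun h => htC ?_) (hτ ?_) hDcard
    · show t * t = 1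
      exact ht2
    · obtain ⟨i, hi⟩ := Subgroup.mem_zpowers_iff.1 h
      have h' : (c0 : L) ^ i = t := by rw [← show τ (cD ^ i) = (c0 : L) ^ i by rw [map_zpow]; rfl, hi]; rfl
      rw [← h']
      exact zpow_mem c0.2 i
    · show t * (c0 : L) * t⁻¹ = (c0 : L)⁻¹
      rw [hti]; exact hinv _ c0.2
  -- no fixed points
  have hDfree : ∀ d : D, ∀ z : Z, d • z = z → d = 1 := by
    intro d z hz
    have hz' : τ d • (z : Ω) = z := congrArg Subtype.val hz
    rcases hDmem d with h | h
    · exact hτ (hCfree _ h z z.2.1 z.2.2 hz')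
    · exfalso
      set g := t * τ d with hg
      have hd : τ d = t * g := by rw [hg, ← mul_assoc, ht2, one_mul]
      have hd2 : τ d * τ d = 1 := by
        rw [hd, ← mul_assoc (t * g), hinv g h, inv_mul_cancel]
      have hd1 : τ d ≠ 1 := fun e' => htC (by
        rw [hd] at e'
        rw [eq_inv_of_mul_eq_one_left e']
        exact inv_mem h)
      have ho := orderOf_dvd_natCard (⟨τ d, hz'⟩ : stabilizer L (z : Ω))
      rw [hLa, ← orderOf_submonoid (⟨τ d, hz'⟩ : stabilizer L (z : Ω))] at ho
      rw [orderOf_eq_prime (x := τ d) (p := 2) (by rw [pow_two, hd2]) hd1] at ho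
      rcases Nat.prime_two.dvd_mul.1 ho with h' | h'
      · omega
      · obtain ⟨k, hk⟩ := hmodd
        omega
  have hDtrans : IsPretransitive D Z := by
    refine ⟨fun x y => ?_⟩
    have hb : Function.Bijective fun d : D => d • x := by
      refine Function.Injective.bijective_of_nat_card_le (fun d d' h => ?_) (by rw [hDcard, hZc, hp1])
      have h' : (d⁻¹ * d') • x = x := by
        rw [mul_smul, inv_smul_eq_iff]; exact h.symm
      exact inv_mul_eq_one.1 (hDfree _ x h')
    exact hb.2 y
  have h2W := Cfsg.Agent.S3572.two_transitive_of_dihedral hWprim D m eD hDtrans fun z => by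
    rw [eq_bot_iff]
    exact fun d hd => Subgroup.mem_bot.2 (hDfree d z hd)
  rw [is_two_pretransitive_iff] at h2W
  -- the orbits of the three point stabiliser
  obtain ⟨c, hca, hcb⟩ : ∃ c : Ω, c ≠ a ∧ c ≠ b := by
    obtain ⟨z⟩ : Nonempty Z := (Nat.card_pos_iff.1 (by omega)).1
    exact ⟨z, z.2⟩
  let c' : Y := ⟨c, fun h => hca (Set.mem_singleton_iff.1 h)⟩
  have hbc : b' ≠ c' := fun h => hcb (congrArg Subtype.val h).symm
  set R : Finset Ω := (((Finset.univ : Finset Ω).erase a).erase b).erase c with hR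
  have hRm : ∀ z, z ∈ R ↔ z ≠ a ∧ z ≠ b ∧ z ≠ c := fun z => by
    simp [hR, and_comm, and_left_comm, and_assoc]
  have hRc : R.card = p - 2 := by
    rw [hR, Finset.card_erase_of_mem (by simp [hca, hcb]), Finset.card_erase_of_mem (by simp [hba]),
      Finset.card_erase_of_mem (Finset.mem_univ _), Finset.card_univ, hΩ]
    omega
  obtain ⟨z0, hz0⟩ : R.Nonempty := Finset.card_pos.1 (by omega)
  obtain ⟨hz0a, hz0b, hz0c⟩ := (hRm z0).1 hz0
  let O : Finset Ω := Finset.univ.filter fun z => ∃ g : X, g • a = a ∧ g • b = b ∧ g • c = c ∧ g • z0 = z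
  have hO : ∀ z, z ∈ O ↔ ∃ g : X, g • a = a ∧ g • b = b ∧ g • c = c ∧ g • z0 = z := fun z => by simp [O]
  have hmove : ∀ z ∈ R, ∃ g ∈ W, g • c = c ∧ g • z0 = z := by
    intro z hz
    obtain ⟨hza, hzb, hzc⟩ := (hRm z).1 hz
    obtain ⟨g, g1, g2⟩ := h2W (a := (⟨c, hca, hcb⟩ : Z)) (b := ⟨z0, hz0a, hz0b⟩) (c := ⟨c, hca, hcb⟩)
      (d := ⟨z, hza, hzb⟩) (fun h => hz0c (congrArg Subtype.val h).symm) (fun h => hzc (congrArg Subtype.val h).symm)
    exact ⟨g, g.2, congrArg Subtype.val g1, congrArg Subtype.val g2⟩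
  have hnot : ¬ R ⊆ O := by
    intro hsub
    have h4' := h4 b' c' hbc
    set K := stabilizer (stabilizer X a) b' ⊓ stabilizer (stabilizer X a) c'
    let z0' : Y := ⟨z0, fun h => hz0a (Set.mem_singleton_iff.1 h)⟩
    let mk : Fin 3 → orbitRel.Quotient K Y :=
      ![Quotient.mk'' b', Quotient.mk'' c', Quotient.mk'' z0']
    have hsur : Function.Surjective mk := by
      intro q
      obtain ⟨z, rfl⟩ := Quotient.mk''_surjective q
      by_cases h1 : z = b'
      · exact ⟨0, h1 ▸ rfl⟩
      by_cases h2 : z = c'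
      · exact ⟨1, h2 ▸ rfl⟩
      have hzR : (z : Ω) ∈ R := (hRm _).2 ⟨fun h => z.2 (Set.mem_singleton_iff.2 h),
        fun h => h1 (Subtype.ext h), fun h => h2 (Subtype.ext h)⟩
      obtain ⟨g, ga, gb, gc, gz⟩ := (hO _).1 (hsub hzR)
      refine ⟨2, (Quotient.sound' (orbitRel_apply.2 ?_)).symm⟩
      exact ⟨⟨⟨g, ga⟩, Subtype.ext gb, Subtype.ext gc⟩, Subtype.ext gz⟩
    have := Nat.card_le_card_of_surjective mk hsur
    rw [h4', Nat.card_eq_fintype_card, Fintype.card_fin] at this
    omega
  obtain ⟨w, hwR, hwO⟩ := Finset.not_subset.1 hnot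
  obtain ⟨s, hsW, hsc, hsz⟩ := hmove w hwR
  have hsab : s • a = b ∧ s • b = a := by
    rcases hsW with h | h
    · exact absurd ((hO w).2 ⟨s, h.1, h.2, hsc, hsz⟩) hwO
    · exact h
  have hOR : O ⊆ R := fun z hz => by
    obtain ⟨g, ga, gb, gc, rfl⟩ := (hO z).1 hz
    exact (hRm _).2 ⟨fun h => hz0a (MulAction.injective g (h.trans ga.symm)),
      fun h => hz0b (MulAction.injective g (h.trans gb.symm)), fun h => hz0c (MulAction.injective g (h.trans gc.symm))⟩
  have hcov : R = O ∪ O.image (s • ·) := by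
    refine Finset.Subset.antisymm (fun z hz => ?_) (Finset.union_subset hOR fun z hz => ?_)
    · obtain ⟨g, hgW, gc, gz⟩ := hmove z hz
      rcases hgW with h | h
      · exact Finset.mem_union_left _ ((hO z).2 ⟨g, h.1, h.2, gc, gz⟩)
      · refine Finset.mem_union_right _ (Finset.mem_image.2 ⟨s⁻¹ • z, (hO _).2 ⟨s⁻¹ * g, ?_, ?_, ?_, ?_⟩,
          smul_inv_smul s z⟩)
        · rw [mul_smul, h.1, inv_smul_eq_iff, hsab.1]
        · rw [mul_smul, h.2, inv_smul_eq_iff, hsab.2]
        · rw [mul_smul, gc, inv_smul_eq_iff, hsc]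
        · rw [mul_smul, gz]
    · obtain ⟨y, hy, rfl⟩ := Finset.mem_image.1 hz
      obtain ⟨hya, hyb, hyc⟩ := (hRm y).1 (hOR hy)
      exact (hRm _).2 ⟨fun h => hyb (MulAction.injective s (h.trans hsab.2.symm)),
        fun h => hya (MulAction.injective s (h.trans hsab.1.symm)), fun h => hyc (MulAction.injective s (h.trans hsc.symm))⟩
  have hdis : Disjoint O (O.image (s • ·)) := by
    rw [Finset.disjoint_left]
    intro z hz hz'
    obtain ⟨y, hy, hyz⟩ := Finset.mem_image.1 hz'
    obtain ⟨g, ga, gb, gc, gz⟩ := (hO z).1 hz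
    obtain ⟨h, ha', hb', hc', hz0'⟩ := (hO y).1 hy
    refine hwO ((hO w).2 ⟨(s * h⁻¹ * s⁻¹) * g, ?_, ?_, ?_, ?_⟩)
    · rw [mul_smul, mul_smul, mul_smul, ga, inv_smul_eq_iff.2 hsab.2.symm, inv_smul_eq_iff.2 hb'.symm, hsab.2]
    · rw [mul_smul, mul_smul, mul_smul, gb, inv_smul_eq_iff.2 hsab.1.symm, inv_smul_eq_iff.2 ha'.symm, hsab.1]
    · rw [mul_smul, mul_smul, mul_smul, gc, inv_smul_eq_iff.2 hsc.symm, inv_smul_eq_iff.2 hc'.symm, hsc]
    · rw [mul_smul, mul_smul, mul_smul, gz, ← hyz]
      show s • h⁻¹ • s⁻¹ • s • y = w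
      rw [inv_smul_smul, ← hz0', inv_smul_smul, hsz]
  have hcard := congrArg Finset.card hcov
  rw [hRc, Finset.card_union_of_disjoint hdis, Finset.card_image_of_injective _ (MulAction.injective s)] at hcard
  omega

end CfsgLib.Recog.NeumannTwin
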